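import Cfsg.Agent.J2Loc.Cent
import Cfsg.Agent.TwoFusion.BSW

/-!
Centralisers of the elements of order 3 and 5 of `K`: either inside the normaliser of `V`, or of order `60 q`.
-/

set_option autoImplicit false
set_option linter.style.haveILetI false
set_option linter.unusedSectionVars false

namespace Cfsg.Agent.J2Loc

open Cfsg Cfsg.Agent.LargeExtra Cfsg.Agent.J2Type

variable {G : Type*} [Group G] [Finite G]

namespace Loc

variable {z : G} {Q : Subgroup G} {p : Fin 5 → G} {x : G} {c : Cfg z Q p x} {K : Subgroup G}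
  {ι : K →* A5.P5} (L : Loc c K ι)
include L

theorem card_normal_case {k : K} {q : ℕ} (hq : q = 3 ∨ q = 5) (ho : orderOf k = q) {r : G}
    (hr3 : orderOf r = 3) (hrK : ∀ k ∈ K, r * k = k * r) (hrx : r * x ≠ x * r)
    (hrV : ∀ v ∈ L.V, r * v * r⁻¹ ∈ L.V)
    (hn : ∀ w ∈ cen (k : G), ∀ v ∈ L.V, w * v * w⁻¹ ∈ L.V) :
    Nat.card (cen (k : G)) = 12 * q := by
  classical
  set a := r * x * r⁻¹ with ha
  have haV : a ∈ L.V := hrV x L.x_mem_V
  have hr1 : r ^ 3 = 1 := by rw [← hr3, pow_orderOf_eq_one]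
  have ha1 : a ≠ 1 := fun e => c.x_ne_one (conj_eq_one_iff.1 e)
  have hax : a ≠ x := fun e => hrx (mul_inv_eq_iff_eq_mul.1 e)
  set b := r * a * r⁻¹ with hb
  have hb1 : b ≠ 1 := fun e => ha1 (conj_eq_one_iff.1 e)
  have hba : b ≠ a := fun e => hax ((MulAut.conj r).injective (show r * a * r⁻¹ = r * x * r⁻¹ from e))
  have hbx : b ≠ x := by
    intro e
    apply hrx
    refine mul_inv_eq_iff_eq_mul.1 ?_
    have e2 : r ^ 3 * x * (r ^ 3)⁻¹ = r * (r * a * r⁻¹) * r⁻¹ := by
      simp only [ha, pow_succ, pow_zero, one_mul, mul_inv_rev, mul_assoc]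
    rw [← hb, e, hr1, one_mul, inv_one, mul_one] at e2
    exact e2.symm
  have hbV : b ∈ L.V := hrV a haV
  have hbv : b = x * a := (((L.V_cases haV ha1 hax hbV).resolve_left hb1).resolve_left hbx).resolve_left hba
  have hrk : r ∈ cen (k : G) := mem_cen.2 (hrK k k.2)
  let H := cen x ⊓ cen (k : G)
  have himg : ∀ i : Fin 3, r ^ (i : ℕ) * x * (r ^ (i : ℕ))⁻¹ = ![x, a, b] i := by
    intro i
    fin_cases i
    · simp
    · simp [ha]
    · simp [hb, ha, pow_two, mul_assoc]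
  have hdist : Function.Injective ![x, a, b] := by
    intro i j h
    fin_cases i <;> fin_cases j <;> first | rfl | (exfalso; simp at h; first
      | exact hax h | exact hax h.symm | exact hbx h | exact hbx h.symm | exact hba h | exact hba h.symm)
  let f : Fin 3 × H → cen (k : G) := fun q => ⟨r ^ (q.1 : ℕ) * q.2, mul_mem (pow_mem hrk _) q.2.2.2⟩
  have hf : Function.Bijective f := by
    constructor
    · rintro ⟨i, h, hh⟩ ⟨j, h', hh'⟩ e
      have e' : r ^ (i : ℕ) * h = r ^ (j : ℕ) * h' := congrArg Subtype.val e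
      have key : ∀ (i : Fin 3) (h : G), h ∈ H → (r ^ (i : ℕ) * h) * x * (r ^ (i : ℕ) * h)⁻¹ = ![x, a, b] i := by
        intro i h hh
        rw [← himg i]
        calc (r ^ (i : ℕ) * h) * x * (r ^ (i : ℕ) * h)⁻¹ = r ^ (i : ℕ) * (h * x * h⁻¹) * (r ^ (i : ℕ))⁻¹ := by group
          _ = _ := by rw [mul_inv_eq_iff_eq_mul.2 (mem_cen.1 hh.1)]
      have hij : i = j := hdist (by rw [← key i h hh, ← key j h' hh', e'])
      subst hij
      have := mul_left_cancel e'
      subst this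
      rfl
    · rintro ⟨w, hw⟩
      have hwx := hn w hw x L.x_mem_V
      have hne : w * x * w⁻¹ ≠ 1 := fun e => c.x_ne_one (conj_eq_one_iff.1 e)
      obtain ⟨i, hi⟩ : ∃ i : Fin 3, w * x * w⁻¹ = ![x, a, b] i := by
        rcases (L.V_cases haV ha1 hax hwx).resolve_left hne with e | e | e
        · exact ⟨0, e⟩
        · exact ⟨1, e⟩
        · exact ⟨2, e.trans hbv.symm⟩
      refine ⟨(i, ⟨(r ^ (i : ℕ))⁻¹ * w, Subgroup.mem_inf.2 ⟨mem_cen.2 ?_, mul_mem (inv_mem (pow_mem hrk _)) hw⟩⟩), Subtype.ext ?_⟩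
      · refine mul_inv_eq_iff_eq_mul.1 ?_
        calc (r ^ (i : ℕ))⁻¹ * w * x * ((r ^ (i : ℕ))⁻¹ * w)⁻¹
            = (r ^ (i : ℕ))⁻¹ * (w * x * w⁻¹) * r ^ (i : ℕ) := by group
          _ = x := by rw [hi, ← himg i]; group
      · exact mul_inv_cancel_left _ _
  rw [← Nat.card_congr (Equiv.ofBijective f hf), Nat.card_prod, Nat.card_fin, L.card_cx_inf' hq ho]
  ring

theorem bsw_dichotomy {k : K} {q : ℕ} (hq : q = 3 ∨ q = 5) (ho : orderOf k = q) :
    (∀ w ∈ cen (k : G), ∀ v ∈ L.V, w * v * w⁻¹ ∈ L.V) ∨ Nat.card (cen (k : G)) = 60 * q := by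
  classical
  haveI : Fact (Nat.Prime 2) := ⟨Nat.prime_two⟩
  set C := cen (k : G) with hC
  let kC : C := ⟨k, mem_cen.2 rfl⟩
  let Z : Subgroup C := Subgroup.zpowers kC
  haveI hZn : Z.Normal := ⟨fun a ha g => by
    obtain ⟨n, rfl⟩ := ha
    have hg : g * kC * g⁻¹ = kC := Subtype.ext (mul_inv_eq_iff_eq_mul.2 (mem_cen.1 g.2))
    show g * kC ^ n * g⁻¹ ∈ Z
    rw [← conj_zpow, hg]
    exact Subgroup.zpow_mem_zpowers _ _⟩
  have hkq : kC ^ q = 1 := Subtype.ext (by
    show (k : G) ^ q = 1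
    rw [← ho, ← SubmonoidClass.coe_pow, pow_orderOf_eq_one]; rfl)
  have hqodd : Odd q := by rcases hq with rfl | rfl <;> decide
  have hZq : ∀ a ∈ Z, a ^ q = 1 := by
    rintro a ⟨n, rfl⟩
    show (kC ^ n) ^ q = 1
    rw [← zpow_natCast, ← zpow_mul, mul_comm, zpow_mul, zpow_natCast, hkq, one_zpow]
  have hZ2 : ∀ a ∈ Z, a * a = 1 → a = 1 := by
    intro a ha h2
    obtain ⟨m, hm⟩ := hqodd
    have := hZq a ha
    rwa [hm, pow_succ, pow_mul, pow_two, h2, one_pow, one_mul] at this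
  have hVC := L.V_le_cen k
  let V' : Subgroup C := L.V.subgroupOf C
  have hV'card : Nat.card V' = 4 := by
    rw [Nat.card_congr (Subgroup.subgroupOfEquivOfLe hVC).toEquiv, L.card_V]
  let π := QuotientGroup.mk' Z
  let Tb : Subgroup (C ⧸ Z) := V'.map π
  have hinjV : ∀ a ∈ V', π a = 1 → a = 1 := fun a ha h =>
    hZ2 a ((QuotientGroup.eq_one_iff a).1 h) (Subtype.ext (L.V_sq ha))
  have hTcard : Nat.card Tb = 4 := by
    rw [← hV'card]
    refine (Nat.card_congr (Equiv.ofBijective (fun a : V' => (⟨π a, _, a.2, rfl⟩ : Tb)) ⟨fun a b h => ?_, ?_⟩)).symm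
    · have h' : π a = π b := congrArg Subtype.val h
      have := hinjV _ (mul_mem (inv_mem a.2) b.2) (by rw [map_mul, map_inv, h', inv_mul_cancel])
      exact Subtype.ext (inv_mul_eq_one.1 this)
    · rintro ⟨_, a, ha, rfl⟩; exact ⟨⟨a, ha⟩, rfl⟩
  have hidx : ¬ 2 ∣ Tb.index := fun h =>
    not_dvd_index_two hVC L.V_isPGroup (L.V_max hq ho)
      (h.trans (Subgroup.index_map_dvd _ (QuotientGroup.mk'_surjective Z)))
  let T : Sylow 2 (C ⧸ Z) :=
    (IsPGroup.of_card (n := 2) (by rw [hTcard]; norm_num) : IsPGroup 2 Tb).toSylow hidx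
  have memT : ∀ {a : C ⧸ Z}, a ∈ (T : Subgroup (C ⧸ Z)) ↔ a ∈ Tb := fun {a} => Iff.rfl
  by_cases hTn : (T : Subgroup (C ⧸ Z)).Normal
  · refine Or.inl fun w hw v hv => ?_
    have h1 := hTn.conj_mem (π ⟨v, hVC hv⟩) (memT.2 ⟨_, hv, rfl⟩) (π ⟨w, hw⟩)
    obtain ⟨a, ha, hae⟩ := memT.1 h1
    have h2 : a⁻¹ * (⟨w, hw⟩ * ⟨v, hVC hv⟩ * ⟨w, hw⟩⁻¹) ∈ Z := by
      refine (QuotientGroup.eq_one_iff _).1 ?_
      show π _ = 1
      rw [map_mul, map_inv, hae, map_mul, map_mul, map_inv, inv_mul_cancel]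
    set u : C := ⟨w, hw⟩ * ⟨v, hVC hv⟩ * ⟨w, hw⟩⁻¹
    have hu : u * u = 1 := by
      refine Subtype.ext ?_
      show w * v * w⁻¹ * (w * v * w⁻¹) = 1
      calc w * v * w⁻¹ * (w * v * w⁻¹) = w * (v * v) * w⁻¹ := by group
        _ = 1 := by rw [L.V_sq hv]; group
    have haa : a * a = 1 := Subtype.ext (L.V_sq ha)
    obtain ⟨n, hn⟩ := h2
    have hca : Commute a (kC ^ n) := by
      refine Commute.zpow_right (Subtype.ext ?_) n
      exact mem_cen.1 a.2
    have hun : u = a * kC ^ n := by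
      rw [show kC ^ n = a⁻¹ * u from hn, mul_inv_cancel_left]
    have hz1 : kC ^ n = 1 := by
      refine hZ2 _ (Subgroup.zpow_mem_zpowers _ _) ?_
      rw [hun] at hu
      calc kC ^ n * kC ^ n = (a * a) * (kC ^ n * kC ^ n) := by rw [haa, one_mul]
        _ = a * kC ^ n * (a * kC ^ n) := (hca.symm.mul_mul_mul_comm _ _).symm
        _ = 1 := hu
    rw [hz1, mul_one] at hun
    have e : w * v * w⁻¹ = a := congrArg Subtype.val hun
    rw [e]; exact ha
  · right
    have hTsq : ∀ a ∈ (T : Subgroup (C ⧸ Z)), a ^ 2 = 1 := by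
      intro a ha
      obtain ⟨b, hb, rfl⟩ := memT.1 ha
      rw [← map_pow, pow_two, show b * b = 1 from Subtype.ext (L.V_sq hb), map_one]
    have hTcomm : ∀ a ∈ (T : Subgroup (C ⧸ Z)), ∀ b ∈ (T : Subgroup (C ⧸ Z)), a * b = b * a := by
      intro a ha b hb
      obtain ⟨a', ha', rfl⟩ := memT.1 ha
      obtain ⟨b', hb', rfl⟩ := memT.1 hb
      rw [← map_mul, ← map_mul, show a' * b' = b' * a' from Subtype.ext (L.V_comm ha' hb')]
    have hncyc : ¬ IsCyclic (T : Subgroup (C ⧸ Z)) := by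
      intro hc
      have h1 := hc.exponent_eq_card
      have h2 : Monoid.exponent (T : Subgroup (C ⧸ Z)) ∣ 2 :=
        Monoid.exponent_dvd_of_forall_pow_eq_one fun w => Subtype.ext (hTsq w w.2)
      rw [h1, show Nat.card (T : Subgroup (C ⧸ Z)) = 4 from hTcard] at h2
      norm_num at h2
    have hcent : ∀ t : C ⧸ Z, orderOf t = 2 → IsMulCommutative (Subgroup.centralizer ({t} : Set (C ⧸ Z))) ∧
        ∀ w ∈ Subgroup.centralizer ({t} : Set (C ⧸ Z)), w ^ 2 = 1 := by
      intro t ht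
      obtain ⟨t₁, rfl⟩ := QuotientGroup.mk_surjective t
      set t₀ := t₁ ^ q
      have ht2 : (QuotientGroup.mk t₁ : C ⧸ Z) * QuotientGroup.mk t₁ = 1 := by
        rw [← pow_two, ← ht, pow_orderOf_eq_one]
      have hmk : (QuotientGroup.mk t₀ : C ⧸ Z) = QuotientGroup.mk t₁ := by
        obtain ⟨m, hm⟩ := hqodd
        show π (t₁ ^ q) = π t₁
        rw [map_pow, hm, pow_succ, pow_mul, pow_two]
        show (QuotientGroup.mk t₁ * QuotientGroup.mk t₁ : C ⧸ Z) ^ m * QuotientGroup.mk t₁ = _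
        rw [ht2, one_pow, one_mul]
        rfl
      have hsq : t₀ * t₀ = 1 := by
        rw [← pow_two, ← pow_mul, mul_comm, pow_mul]
        refine hZq _ ((QuotientGroup.eq_one_iff _).1 ?_)
        show π (t₁ ^ 2) = 1
        rw [map_pow, pow_two]; exact ht2
      have ht01 : t₀ ≠ 1 := fun e => by
        rw [← hmk, e, QuotientGroup.mk_one, orderOf_one] at ht; norm_num at ht
      obtain ⟨h, hhC, hhV⟩ := exists_conj_mem hVC L.V_isPGroup (L.V_max hq ho) t₀.2
        (isPGroup_zpowers_of_sq (congrArg Subtype.val hsq : (t₀ : G) * t₀ = 1))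
      let h' : C := ⟨h, hhC⟩
      have hv1 : h * (t₀ : G) * h⁻¹ ≠ 1 := fun e => ht01 (Subtype.ext (conj_eq_one_iff.1 e))
      have key : ∀ w ∈ Subgroup.centralizer ({(QuotientGroup.mk t₁ : C ⧸ Z)} : Set (C ⧸ Z)),
          π h' * w * (π h')⁻¹ ∈ (T : Subgroup (C ⧸ Z)) := by
        intro w hw
        obtain ⟨w₁, rfl⟩ := QuotientGroup.mk_surjective w
        have hcm := Subgroup.mem_centralizer_singleton_iff.1 hw
        rw [← hmk, ← QuotientGroup.mk_mul, ← QuotientGroup.mk_mul, QuotientGroup.eq] at hcm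
        have hcw : w₁ * t₀ = t₀ * w₁ := by
          obtain ⟨n, hn⟩ := hcm
          have hc' : Commute t₀ (kC ^ n) := Commute.zpow_right (Subtype.ext (mem_cen.1 t₀.2)) n
          have e : w₁⁻¹ * t₀ * w₁ = t₀ * kC ^ n := by
            rw [show kC ^ n = (w₁ * t₀)⁻¹ * (t₀ * w₁) from hn]; group
          have hz1 : kC ^ n = 1 := by
            refine hZ2 _ (Subgroup.zpow_mem_zpowers _ _) ?_
            calc kC ^ n * kC ^ n = (t₀ * t₀) * (kC ^ n * kC ^ n) := by rw [hsq, one_mul]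
              _ = t₀ * kC ^ n * (t₀ * kC ^ n) := (hc'.symm.mul_mul_mul_comm _ _).symm
              _ = w₁⁻¹ * (t₀ * t₀) * w₁ := by rw [← e]; group
              _ = 1 := by rw [hsq]; group
          rw [hz1, mul_one] at e
          calc w₁ * t₀ = w₁ * (w₁⁻¹ * t₀ * w₁) := by rw [e]
            _ = t₀ * w₁ := by group
        have hcG : (h * (w₁ : G) * h⁻¹) * (h * (t₀ : G) * h⁻¹) = (h * (t₀ : G) * h⁻¹) * (h * (w₁ : G) * h⁻¹) :=
          commute_conj_iff.2 (congrArg Subtype.val hcw)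
        have hmem : h * (w₁ : G) * h⁻¹ ∈ cen x ⊓ cen (k : G) := by
          refine Subgroup.mem_inf.2 ⟨?_, mul_mem (mul_mem hhC w₁.2) (inv_mem hhC)⟩
          have : h * (w₁ : G) * h⁻¹ ∈ cen (h * (t₀ : G) * h⁻¹) := mem_cen.2 hcG
          rwa [cen, L.centralizer_V hhV hv1] at this
        obtain ⟨v, hv, a, ha, hva⟩ := L.decomp (mem_cen.1 hmem.1)
        -- the component in `K` lies in the subgroup generated by `k`
        have hak : (a : G) * k = k * a := by
          have h1 := (L.mem_V.1 hv).2 k k.2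
          have h2 := mem_cen.1 hmem.2
          rw [hva, mul_assoc, ← mul_assoc (k : G), ← h1, mul_assoc] at h2
          exact mul_left_cancel h2
        have haz : (⟨a, ha⟩ : K) ∈ Subgroup.zpowers k := by
          have hn := L.card_cx_inf' hq ho
          let g : L.V × Subgroup.zpowers k → (cen x ⊓ cen (k : G) : Subgroup G) := fun q =>
            ⟨(q.1 : G) * ((q.2 : K) : G), mul_mem ⟨mem_cen.2 (L.mem_V.1 q.1.2).1, hVC q.1.2⟩
              ⟨L.comp.le (q.2 : K).2, mem_cen.2 (by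
                obtain ⟨n, hn⟩ := Subgroup.mem_zpowers_iff.1 q.2.2
                rw [← hn]
                exact congrArg Subtype.val ((Commute.refl k).zpow_left n).eq)⟩⟩
          have hg : Function.Injective g := by
            rintro ⟨⟨v, hv⟩, ⟨⟨a, ha⟩, ha'⟩⟩ ⟨⟨w, hw⟩, ⟨⟨b, hb⟩, hb'⟩⟩ h
            have h' : v * a = w * b := congrArg Subtype.val h
            have h1 : w⁻¹ * v = b * a⁻¹ := by
              calc w⁻¹ * v = w⁻¹ * (v * a) * a⁻¹ := by group
                _ = b * a⁻¹ := by rw [h']; group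
            have h3 : w = v := inv_mul_eq_one.1 (L.inf_K (mul_mem (inv_mem hw) hv) (h1 ▸ mul_mem hb (inv_mem ha)))
            subst h3
            have h4 : a = b := mul_left_cancel h'
            subst h4
            rfl
          have hbij := hg.bijective_of_nat_card_le (by rw [hn, Nat.card_prod, L.card_V, Nat.card_zpowers, ho])
          obtain ⟨⟨⟨v', hv'⟩, ⟨⟨a', ha'⟩, haz'⟩⟩, he⟩ := hbij.2 ⟨_, hmem⟩
          have he' : v' * a' = v * a := (congrArg Subtype.val he : v' * a' = h * (w₁ : G) * h⁻¹).trans hva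
          have h1 : v⁻¹ * v' = a * a'⁻¹ := by
            calc v⁻¹ * v' = v⁻¹ * (v' * a') * a'⁻¹ := by group
              _ = a * a'⁻¹ := by rw [he']; group
          have h3 : v = v' := inv_mul_eq_one.1 (L.inf_K (mul_mem (inv_mem hv) hv') (h1 ▸ mul_mem ha (inv_mem ha')))
          subst h3
          have h4 : a' = a := mul_left_cancel he'
          subst h4
          exact haz'
        obtain ⟨n, hn⟩ := haz
        refine memT.2 ⟨⟨v, hVC hv⟩, hv, ?_⟩
        show π ⟨v, hVC hv⟩ = π h' * π w₁ * (π h')⁻¹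
        rw [← map_mul, ← map_inv, ← map_mul]
        refine QuotientGroup.eq.2 ⟨n, ?_⟩
        apply Subtype.ext
        show ((kC ^ n : C) : G) = v⁻¹ * (h * (w₁ : G) * h⁻¹)
        rw [hva, inv_mul_cancel_left]
        calc ((kC ^ n : C) : G) = (k : G) ^ n := by rfl
          _ = ((k ^ n : K) : G) := by rfl
          _ = a := congrArg Subtype.val hn
      refine ⟨⟨⟨fun a b => Subtype.ext ?_⟩⟩, fun w hw => ?_⟩
      · have e := hTcomm _ (key a a.2) _ (key b b.2)
        exact commute_conj_iff.1 e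
      · have e := hTsq _ (key w hw)
        rw [conj_pow] at e
        exact conj_eq_one_iff.1 e
    have hyp : TwoFusion.BSW.Hyp T := ⟨hncyc, hTn, hcent⟩
    obtain ⟨a, ha⟩ := TwoFusion.BSW.exists_not_mem hyp
    have hTc : Nat.card (T : Subgroup (C ⧸ Z)) = 4 := hTcard
    have hN12 : Nat.card (TwoFusion.BSW.nT T) = 12 := by
      rw [TwoFusion.BSW.card_nT hyp ha]
      show Nat.card (T : Subgroup (C ⧸ Z)) * (Nat.card (T : Subgroup (C ⧸ Z)) - 1) = 12
      rw [hTc]
    have h5 : (TwoFusion.BSW.nT T).index = 5 := by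
      have h1 := TwoFusion.BSW.card_outside hyp
      haveI : Fintype ((C ⧸ Z) ⧸ TwoFusion.BSW.nT T) := Fintype.ofFinite _
      have h2 : Nat.card {q : (C ⧸ Z) ⧸ TwoFusion.BSW.nT T // q ≠ QuotientGroup.mk 1} =
          Nat.card ((C ⧸ Z) ⧸ TwoFusion.BSW.nT T) - 1 := by
        rw [Nat.card_eq_fintype_card, Nat.card_eq_fintype_card, Fintype.card_subtype_compl,
          Fintype.card_subtype_eq]
      rw [h2, hTc] at h1
      rw [Subgroup.index_eq_card]
      omega
    have hquot := Subgroup.card_mul_index (TwoFusion.BSW.nT T)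
    rw [hN12, h5] at hquot
    have hZc : Nat.card Z = q := by
      rw [Nat.card_zpowers, ← Subgroup.orderOf_coe kC]
      show orderOf ((k : K) : G) = q
      rw [Subgroup.orderOf_coe, ho]
    rw [Subgroup.card_eq_card_quotient_mul_card_subgroup Z, ← hquot, hZc]

end Loc

end Cfsg.Agent.J2Loc
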