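import Cfsg.Agent.J2Loc.Triple

/-!
Centralisers of elements of order 3 and 5 inside the two involution centralisers, and their consequences.
-/

set_option autoImplicit false
set_option linter.style.haveILetI false
set_option linter.unusedSectionVars false

namespace Cfsg.Agent.J2Loc

open Cfsg Cfsg.Agent.LargeExtra Cfsg.Agent.J2Type

section Tools

variable {G : Type*} [Group G] [Finite G]

/-- Centraliser of one element, as a short name. -/
abbrev cen (a : G) : Subgroup G := Subgroup.centralizer ({a} : Set G)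

theorem mem_cen {a w : G} : w ∈ cen a ↔ w * a = a * w := Subgroup.mem_centralizer_singleton_iff

theorem mem_cen_conj {g a w : G} : g * w * g⁻¹ ∈ cen (g * a * g⁻¹) ↔ w ∈ cen a := by
  rw [mem_cen, mem_cen]
  exact commute_conj_iff

theorem card_inf_conj (g a b : G) :
    Nat.card (cen (g * a * g⁻¹) ⊓ cen (g * b * g⁻¹) : Subgroup G) = Nat.card (cen a ⊓ cen b : Subgroup G) := by
  refine Nat.card_congr
    { toFun := fun w => ⟨g⁻¹ * w * g, ?_⟩
      invFun := fun w => ⟨g * w * g⁻¹, mem_cen_conj.2 w.2.1, mem_cen_conj.2 w.2.2⟩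
      left_inv := fun w => Subtype.ext (by group)
      right_inv := fun w => Subtype.ext (by group) }
  refine ⟨mem_cen_conj (g := g).1 ?_, mem_cen_conj (g := g).1 ?_⟩
  · rw [show g * (g⁻¹ * (w : G) * g) * g⁻¹ = w by group]; exact w.2.1
  · rw [show g * (g⁻¹ * (w : G) * g) * g⁻¹ = w by group]; exact w.2.2

theorem card_cen_conj (g a : G) : Nat.card (cen (g * a * g⁻¹)) = Nat.card (cen a) := by
  have := card_inf_conj g a a
  rwa [inf_idem, inf_idem] at this

theorem card_cen_of_isConj {a b : G} (h : IsConj a b) : Nat.card (cen b) = Nat.card (cen a) := by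
  obtain ⟨g, rfl⟩ := isConj_iff.1 h
  exact card_cen_conj g a

/-- An element of 2-power order of a centraliser is conjugate there into a given Sylow 2-subgroup. -/
theorem exists_conj_mem {H S : Subgroup G} [hp : Fact (Nat.Prime 2)] (hSH : S ≤ H) (hS : IsPGroup 2 S)
    (hmax : ∀ P : Subgroup G, IsPGroup 2 P → S ≤ P → P ≤ H → P = S) {w : G} (hw : w ∈ H)
    (hw2 : IsPGroup 2 (Subgroup.zpowers w)) : ∃ h ∈ H, h * w * h⁻¹ ∈ S := by
  obtain ⟨T, hT⟩ := (hS.of_equiv (Subgroup.subgroupOfEquivOfLe hSH).symm).exists_le_sylow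
  have hTS : (T : Subgroup H).map H.subtype = S := by
    refine hmax _ (T.isPGroup'.map _) (fun a ha => ⟨⟨a, hSH ha⟩, hT ha, rfl⟩) (Subgroup.map_subtype_le _)
  obtain ⟨T', hT'⟩ := (show IsPGroup 2 (Subgroup.zpowers (⟨w, hw⟩ : H)) by
    rintro ⟨b, n, rfl⟩
    obtain ⟨k, hk⟩ := hw2 ⟨w ^ n, Subgroup.zpow_mem_zpowers w n⟩
    exact ⟨k, Subtype.ext (Subtype.ext (congrArg Subtype.val hk :))⟩).exists_le_sylow
  obtain ⟨g, hg⟩ := MulAction.exists_smul_eq H T' T
  refine ⟨g, g.2, ?_⟩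
  rw [← hTS]
  refine ⟨g * ⟨w, hw⟩ * g⁻¹, ?_, rfl⟩
  rw [← hg, Sylow.coe_subgroup_smul, SetLike.mem_coe, Subgroup.mem_pointwise_smul_iff_inv_smul_mem]
  simpa [MulAut.smul_def, MulAut.conj_apply, mul_assoc] using hT' (Subgroup.mem_zpowers _)

theorem isPGroup_zpowers_of_sq {w : G} (h : w * w = 1) : IsPGroup 2 (Subgroup.zpowers w) := by
  rintro ⟨b, n, rfl⟩
  refine ⟨1, Subtype.ext ?_⟩
  show (w ^ n) ^ (2 ^ 1) = (1 : G)
  rw [pow_one, pow_two, ← zpow_add, ← two_mul, zpow_mul, zpow_two, h, one_zpow]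

/-- A Sylow 2-subgroup inside a subgroup. -/
theorem not_dvd_index_two {H S : Subgroup G} [hp : Fact (Nat.Prime 2)] (hSH : S ≤ H) (hS : IsPGroup 2 S)
    (hmax : ∀ P : Subgroup G, IsPGroup 2 P → S ≤ P → P ≤ H → P = S) : ¬ 2 ∣ (S.subgroupOf H).index := by
  obtain ⟨T, hT⟩ := (hS.of_equiv (Subgroup.subgroupOfEquivOfLe hSH).symm).exists_le_sylow
  have hTS : (T : Subgroup H) = S.subgroupOf H := by
    refine le_antisymm (fun a ha => ?_) hT
    have := hmax _ (T.isPGroup'.map H.subtype) (fun a ha => ⟨⟨a, hSH ha⟩, hT ha, rfl⟩)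
      (Subgroup.map_subtype_le _)
    exact this ▸ ⟨a, ha, rfl⟩
  exact hTS ▸ T.not_dvd_index

end Tools

variable {G : Type*} [Group G] [Finite G]

namespace Loc

variable {z : G} {Q : Subgroup G} {p : Fin 5 → G} {x : G} {c : Cfg z Q p x} {K : Subgroup G}
  {ι : K →* A5.P5} (L : Loc c K ι)
include L

theorem card_cx_inf (k : K) :
    Nat.card (cen x ⊓ cen (k : G) : Subgroup G) =
      4 * (Finset.univ.filter fun a : A5.P5 => Equiv.Perm.sign a = 1 ∧ a * ι k = ι k * a).card := by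
  classical
  let S := Finset.univ.filter fun a : A5.P5 => Equiv.Perm.sign a = 1 ∧ a * ι k = ι k * a
  let f : L.V × {a : K // ι a ∈ S} → (cen x ⊓ cen (k : G) : Subgroup G) := fun q =>
    ⟨(q.1 : G) * (q.2.1 : G),
      mem_cen.2 (by
        have h1 := (L.mem_V.1 q.1.2).1
        have h2 := mem_cen.1 (L.comp.le q.2.1.2)
        rw [mul_assoc, h2, ← mul_assoc, h1, mul_assoc]),
      mem_cen.2 (by
        have h1 := (L.mem_V.1 q.1.2).2 k k.2
        have h2 : (q.2.1 : G) * k = k * q.2.1 := L.commute_ι.2 (Finset.mem_filter.1 q.2.2).2.2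
        rw [mul_assoc, h2, ← mul_assoc, h1, mul_assoc])⟩
  have hf : Function.Bijective f := by
    constructor
    · rintro ⟨⟨v, hv⟩, ⟨⟨a, ha⟩, ha'⟩⟩ ⟨⟨w, hw⟩, ⟨⟨b, hb⟩, hb'⟩⟩ h
      have h' : v * a = w * b := congrArg Subtype.val h
      have h1 : w⁻¹ * v = b * a⁻¹ := by
        calc w⁻¹ * v = w⁻¹ * (v * a) * a⁻¹ := by group
          _ = b * a⁻¹ := by rw [h']; group
      have h3 : w = v := inv_mul_eq_one.1 (L.inf_K (mul_mem (inv_mem hw) hv) (h1 ▸ mul_mem hb (inv_mem ha)))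
      subst h3
      have h4 : a = b := mul_left_cancel h'
      subst h4
      rfl
    · rintro ⟨h, hhx, hhk⟩
      obtain ⟨v, hv, a, ha, rfl⟩ := L.decomp (mem_cen.1 hhx)
      refine ⟨(⟨v, hv⟩, ⟨⟨a, ha⟩, ?_⟩), rfl⟩
      refine Finset.mem_filter.2 ⟨Finset.mem_univ _, L.sign _, L.commute_ι.1 ?_⟩
      have h1 := (L.mem_V.1 hv).2 k k.2
      have h2 := mem_cen.1 hhk
      rw [mul_assoc, ← mul_assoc (k : G), ← h1, mul_assoc] at h2
      exact mul_left_cancel h2
  rw [← Nat.card_congr (Equiv.ofBijective f hf), Nat.card_prod, L.card_V]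
  congr 1
  rw [← Nat.card_eq_finsetCard]
  refine Nat.card_congr (Equiv.ofBijective (fun a => ⟨ι a.1, a.2⟩) ⟨fun a b h => ?_, fun a => ?_⟩)
  · exact Subtype.ext (L.inj (congrArg Subtype.val h))
  · obtain ⟨b, hb⟩ := L.el_exists (Finset.mem_filter.1 a.2).2.1
    exact ⟨⟨b, hb ▸ a.2⟩, Subtype.ext hb⟩

theorem card_cx_inf' {k : K} {q : ℕ} (hq : q = 3 ∨ q = 5) (ho : orderOf k = q) :
    Nat.card (cen x ⊓ cen (k : G) : Subgroup G) = 4 * q := by
  rw [L.card_cx_inf]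
  have hne : ι k ≠ 1 := fun e => by
    rw [L.inj (e.trans (map_one ι).symm), orderOf_one] at ho; omega
  have hpow : ι k ^ q = 1 := by rw [← map_pow, ← ho, pow_orderOf_eq_one, map_one]
  rcases hq with rfl | rfl
  · rw [(A5.card_centralizer _ (L.sign k) hne).1 hpow]
  · rw [(A5.card_centralizer _ (L.sign k) hne).2 hpow]

theorem two_elt_mem_V {k : K} {q : ℕ} (hq : q = 3 ∨ q = 5) (ho : orderOf k = q) {w : G}
    (hw : w ∈ cen x ⊓ cen (k : G)) (hw2 : IsPGroup 2 (Subgroup.zpowers w)) : w ∈ L.V := by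
  obtain ⟨v, hv, a, ha, rfl⟩ := L.decomp (mem_cen.1 hw.1)
  obtain ⟨j, hj⟩ := hw2 ⟨_, Subgroup.mem_zpowers _⟩
  have hj' : (v * a) ^ 2 ^ j = 1 := congrArg Subtype.val hj
  have hc : Commute v a := (L.mem_V.1 hv).2 a ha
  -- the component in `K` centralises `k`
  have hak : ι ⟨a, ha⟩ * ι k = ι k * ι ⟨a, ha⟩ := by
    refine L.commute_ι.1 ?_
    have h1 := (L.mem_V.1 hv).2 k k.2
    have h2 := mem_cen.1 hw.2
    rw [mul_assoc, ← mul_assoc (k : G), ← h1, mul_assoc] at h2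
    exact mul_left_cancel h2
  have hn : (Subgroup.centralizer ({k} : Set K)) = Subgroup.zpowers k := by
    refine (Subgroup.eq_of_le_of_card_ge (Subgroup.zpowers_le.2 (Subgroup.mem_centralizer_singleton_iff.2 rfl)) ?_).symm
    rw [Nat.card_zpowers, ho]
    have hne : ι k ≠ 1 := fun e => by
      rw [L.inj (e.trans (map_one ι).symm), orderOf_one] at ho; omega
    have hpow : ι k ^ q = 1 := by rw [← map_pow, ← ho, pow_orderOf_eq_one, map_one]
    classical
    have hcard : (Finset.univ.filter fun b : A5.P5 => Equiv.Perm.sign b = 1 ∧ b * ι k = ι k * b).card = q := by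
      rcases hq with rfl | rfl
      · exact (A5.card_centralizer _ (L.sign k) hne).1 hpow
      · exact (A5.card_centralizer _ (L.sign k) hne).2 hpow
    rw [← hcard, ← Nat.card_eq_finsetCard]
    refine Nat.card_le_card_of_injective
      (fun b => ⟨ι b.1, Finset.mem_filter.2 ⟨Finset.mem_univ _, L.sign _, ?_⟩⟩)
      fun b b' h => Subtype.ext (L.inj (congrArg Subtype.val h))
    rw [← map_mul, ← map_mul, Subgroup.mem_centralizer_singleton_iff.1 b.2]
  have ha' : (⟨a, ha⟩ : K) ∈ Subgroup.zpowers k := hn ▸ Subgroup.mem_centralizer_singleton_iff.2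
    (L.inj (by rw [map_mul, map_mul, hak]))
  have hd : orderOf (⟨a, ha⟩ : K) ∣ q := ho ▸ orderOf_dvd_of_mem_zpowers ha'
  rw [hc.mul_pow] at hj'
  rcases Nat.eq_zero_or_pos j with rfl | hjp
  · rw [pow_zero, pow_one, pow_one] at hj'
    rw [hj']; exact one_mem _
  obtain ⟨j', rfl⟩ : ∃ j', j = j' + 1 := ⟨j - 1, by omega⟩
  have hvj : v ^ 2 ^ (j' + 1) = 1 := by rw [pow_succ', pow_mul, pow_two, L.V_sq hv, one_pow]
  rw [hvj, one_mul] at hj'
  have hd2 : orderOf (⟨a, ha⟩ : K) ∣ 2 ^ (j' + 1) := orderOf_dvd_of_pow_eq_one (Subtype.ext hj')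
  have hcop : Nat.Coprime q (2 ^ (j' + 1)) := by
    refine Nat.Coprime.pow_right _ ?_
    rcases hq with rfl | rfl <;> norm_num
  have ha1 : a = 1 := congrArg Subtype.val (orderOf_eq_one_iff.1 (Nat.eq_one_of_dvd_coprimes hcop hd hd2))
  rw [ha1, mul_one]; exact hv

theorem V_isPGroup : IsPGroup 2 L.V := IsPGroup.of_card (n := 2) (by rw [L.card_V]; norm_num)

theorem V_le_cen (k : K) : L.V ≤ cen (k : G) := fun _ hv => mem_cen.2 ((L.mem_V.1 hv).2 k k.2)

theorem V_max {k : K} {q : ℕ} (hq : q = 3 ∨ q = 5) (ho : orderOf k = q) :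
    ∀ P : Subgroup G, IsPGroup 2 P → L.V ≤ P → P ≤ cen (k : G) → P = L.V := by
  haveI : Fact (Nat.Prime 2) := ⟨Nat.prime_two⟩
  intro P hP hVP hPk
  have hz : ∀ w ∈ P, IsPGroup 2 (Subgroup.zpowers w) := fun w hw =>
    hP.to_le (Subgroup.zpowers_le.2 hw)
  refine le_antisymm ?_ hVP
  haveI : Nontrivial P := ⟨⟨⟨x, hVP L.x_mem_V⟩, 1, fun e => c.x_ne_one (congrArg Subtype.val e)⟩⟩
  haveI := hP.center_nontrivial
  obtain ⟨⟨⟨w, hwP⟩, hwc⟩, hw1⟩ := exists_ne (1 : Subgroup.center P)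
  have hcomm : ∀ b ∈ P, b * w = w * b := fun b hb =>
    congrArg Subtype.val (Subgroup.mem_center_iff.1 hwc ⟨b, hb⟩)
  have hwV : w ∈ L.V := L.two_elt_mem_V hq ho
    ⟨mem_cen.2 (hcomm x (hVP L.x_mem_V)).symm, hPk hwP⟩ (hz w hwP)
  intro b hb
  have hbx : b ∈ cen x := by
    have : b ∈ cen w := mem_cen.2 (hcomm b hb)
    rwa [cen, L.centralizer_V hwV fun e => hw1 (Subtype.ext (Subtype.ext e))] at this
  exact L.two_elt_mem_V hq ho ⟨hbx, hPk hb⟩ (hz b hb)

theorem isConj_x_of_cen {k : K} {q : ℕ} (hq : q = 3 ∨ q = 5) (ho : orderOf k = q) {w : G}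
    (hw : w ∈ cen (k : G)) (hw2 : w * w = 1) (hw1 : w ≠ 1) : IsConj x w := by
  haveI : Fact (Nat.Prime 2) := ⟨Nat.prime_two⟩
  obtain ⟨h, -, hV⟩ := exists_conj_mem (L.V_le_cen k) L.V_isPGroup (L.V_max hq ho) hw
    (isPGroup_zpowers_of_sq hw2)
  exact (L.V_isConj hV fun e => hw1 (conj_eq_one_iff.1 e)).trans (Invol.isConj_conj h w).symm

end Loc

/-! ### Elements of order 3 and 5 centralising `z` -/

section AtZ

variable {z : G} {Q : Subgroup G} {p : Fin 5 → G} {x : G} (c : Cfg z Q p x)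
include c

theorem zQ_comm {q : G} (hq : q ∈ Q) : q * z = z * q := c.d.hyp.ci.comm q hq

theorem act_ne_one {t : G} (ht : t ∈ cen z) {n : ℕ} (hn : Odd n) (hto : t ^ n = 1) (ht1 : t ≠ 1) :
    c.d.act ⟨t, ht⟩ ≠ 1 ∧ c.d.act ⟨t, ht⟩ ^ n = 1 := by
  refine ⟨fun e => ht1 ?_, by rw [← map_pow]; exact (congrArg c.d.act (Subtype.ext hto)).trans (map_one _)⟩
  have hQ : t ∈ Q := (c.d.mem_ker_iff _).1 e
  obtain ⟨j, hj⟩ := (IsPGroup.of_card (n := 5) (by rw [c.d.hyp.cardQ]; norm_num) : IsPGroup 2 Q) ⟨t, hQ⟩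
  have hj' : t ^ 2 ^ j = 1 := congrArg Subtype.val hj
  have h1 : orderOf t ∣ n := orderOf_dvd_of_pow_eq_one hto
  have h2 : orderOf t ∣ 2 ^ j := orderOf_dvd_of_pow_eq_one hj'
  exact orderOf_eq_one_iff.1 (Nat.eq_one_of_dvd_coprimes
    (Nat.Coprime.pow_right _ (Nat.coprime_two_right.2 hn)) h1 h2)

theorem card_inf_eq {t : G} (ht : t ∈ cen z) {n m : ℕ} (hn : n.Prime) (hn2 : n ≠ 2) (hto : orderOf t = n)
    (hcard : (Finset.univ.filter fun a : A5.P5 => Equiv.Perm.sign a = 1 ∧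
      a * c.d.act ⟨t, ht⟩ = c.d.act ⟨t, ht⟩ * a).card = n)
    (hker : Nat.card (Q ⊓ cen t : Subgroup G) = m) :
    Nat.card (cen z ⊓ cen t : Subgroup G) = m * n := by
  classical
  set H := cen z ⊓ cen t
  let f : H →* A5.P5 := c.d.act.comp (Subgroup.inclusion inf_le_left)
  have hk : f.ker = (Q ⊓ cen t).subgroupOf H := by
    ext w
    rw [MonoidHom.mem_ker, Subgroup.mem_subgroupOf]
    exact (c.d.mem_ker_iff _).trans ⟨fun h => ⟨h, w.2.2⟩, fun h => h.1⟩
  have hle : Q ⊓ cen t ≤ H := fun w hw => ⟨mem_cen.2 (zQ_comm c hw.1), hw.2⟩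
  have hmk := Subgroup.card_mul_index f.ker
  rw [Subgroup.index_ker, hk, Nat.card_congr (Subgroup.subgroupOfEquivOfLe hle).toEquiv, hker] at hmk
  have hr : Nat.card f.range = n := by
    refine le_antisymm ?_ ?_
    · rw [← hcard, ← Nat.card_eq_finsetCard]
      refine Nat.card_le_card_of_injective (fun a => ⟨a.1, ?_⟩) fun a b h => Subtype.ext (congrArg Subtype.val h :)
      obtain ⟨w, hw⟩ := a.2
      rw [Finset.mem_filter, ← hw]
      refine ⟨Finset.mem_univ _, c.d.sign_act _, ?_⟩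
      show c.d.act _ * c.d.act _ = c.d.act _ * c.d.act _
      rw [← map_mul, ← map_mul]
      exact congrArg c.d.act (Subtype.ext (mem_cen.1 w.2.2))
    · have htH : t ∈ H := ⟨ht, mem_cen.2 rfl⟩
      have hmem : c.d.act ⟨t, ht⟩ ∈ f.range := ⟨⟨t, htH⟩, rfl⟩
      obtain ⟨h1, h2⟩ := act_ne_one c ht (hn.odd_of_ne_two hn2) (by rw [← hto, pow_orderOf_eq_one])
        (fun e => by rw [e, orderOf_one] at hto; exact hn.ne_one hto.symm)
      haveI := Fact.mk hn
      have h3 : orderOf (c.d.act ⟨t, ht⟩) = n := orderOf_eq_prime h2 h1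
      exact h3 ▸ Nat.le_of_dvd Nat.card_pos (f.range.orderOf_dvd_natCard hmem)
  rw [← hmk, hr]

theorem mem_D_iff {t : G} (ht : t ∈ cen z) (hto : t ^ 3 = 1) {q : G} (hq : q ∈ Q) :
    q ∈ cen t ↔ (supp p q).map (c.d.act ⟨t, ht⟩).toEmbedding = supp p q := by
  have hs := c.d.supp_conj ⟨t, ht⟩ hq
  change supp p (t * q * t⁻¹) = _ at hs
  rw [mem_cen, ← hs]
  constructor
  · intro h; rw [← h, mul_inv_cancel_right]
  · intro h
    have hq' : t * q * t⁻¹ ∈ Q := c.d.hyp.conj_mem ht hq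
    rcases c.d.eq_of_supp_eq hq hq' h.symm with e | e
    · exact (mul_inv_eq_iff_eq_mul.1 e).symm
    · exfalso
      have hz : t * z * t⁻¹ = z := mul_inv_eq_iff_eq_mul.2 (mem_cen.1 ht)
      have e2 : t * (t * q * t⁻¹) * t⁻¹ = q := by
        rw [e]
        calc t * (q * z) * t⁻¹ = (t * q * t⁻¹) * (t * z * t⁻¹) := by group
          _ = q := by rw [e, hz, mul_assoc, c.d.hyp.ci.sq, mul_one]
      have ht3 : t * (t * t) = 1 := by
        rw [pow_succ', pow_two] at hto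
        exact hto
      have e3 : t * (t * (t * q * t⁻¹) * t⁻¹) * t⁻¹ = q := by
        calc t * (t * (t * q * t⁻¹) * t⁻¹) * t⁻¹ = (t * (t * t)) * q * (t * (t * t))⁻¹ := by group
          _ = q := by rw [ht3]; group
      rw [e2, e] at e3
      exact c.d.hyp.ci.ne_one (mul_eq_left.1 e3)

theorem card_D {t : G} (ht : t ∈ cen z) (hto : t ^ 3 = 1) (ht1 : t ≠ 1) :
    Nat.card (Q ⊓ cen t : Subgroup G) = 8 := by
  classical
  haveI : Fintype G := Fintype.ofFinite G
  obtain ⟨h1, h2⟩ := act_ne_one c ht (n := 3) ⟨1, rfl⟩ hto ht1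
  obtain ⟨h4, -⟩ := A5.invariant_sets _ (c.d.sign_act ⟨t, ht⟩) h2 h1
  let S := Finset.univ.filter fun q : G => q ∈ Q ∧ q ∈ cen t
  let T := Finset.univ.filter fun A : Finset (Fin 5) =>
    Even A.card ∧ A.map (c.d.act ⟨t, ht⟩).toEmbedding = A
  have hS : Nat.card (Q ⊓ cen t : Subgroup G) = S.card := by
    rw [← Nat.card_eq_finsetCard]
    exact Nat.card_congr (Equiv.subtypeEquivRight fun q => by simp [S, Subgroup.mem_inf])
  have hmaps : ∀ q ∈ S, supp p q ∈ T := fun q hq => by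
    simp only [S, Finset.mem_filter] at hq
    exact Finset.mem_filter.2 ⟨Finset.mem_univ _, c.d.supp_even hq.2.1, (mem_D_iff c ht hto hq.2.1).1 hq.2.2⟩
  rw [hS, Finset.card_eq_sum_card_fiberwise hmaps, Finset.sum_congr rfl (g := fun _ => 2), Finset.sum_const,
    h4]
  · rfl
  intro A hA
  obtain ⟨hev, hinv⟩ := (Finset.mem_filter.1 hA).2
  obtain ⟨a, ha, haA⟩ := c.d.exists_supp A hev
  have hset : (S.filter fun q => supp p q = A) = {a, a * z} := by
    ext q
    simp only [S, Finset.mem_filter, Finset.mem_univ, true_and, Finset.mem_insert, Finset.mem_singleton]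
    constructor
    · rintro ⟨⟨hq, -⟩, hqA⟩
      exact c.d.eq_of_supp_eq ha hq (haA.trans hqA.symm)
    · intro h
      have hq : q ∈ Q := by
        rcases h with rfl | rfl
        · exact ha
        · exact mul_mem ha c.d.hyp.ci.mem
      have hqA : supp p q = A := by
        rcases h with rfl | rfl
        · exact haA
        · rw [c.d.supp_mul_z ha, haA]
      exact ⟨⟨hq, (mem_D_iff c ht hto hq).2 (by rw [hqA, hinv])⟩, hqA⟩
  rw [hset, Finset.card_pair fun e => c.d.hyp.ci.ne_one (mul_left_cancel (e.symm.trans (mul_one a).symm))]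

theorem card_z_three {t : G} (ht : t ∈ cen z) (hto : orderOf t = 3) :
    Nat.card (cen z ⊓ cen t : Subgroup G) = 24 := by
  have h3 : t ^ 3 = 1 := by rw [← hto, pow_orderOf_eq_one]
  have ht1 : t ≠ 1 := fun e => by rw [e, orderOf_one] at hto; norm_num at hto
  obtain ⟨h1, h2⟩ := act_ne_one c ht (n := 3) ⟨1, rfl⟩ h3 ht1
  exact card_inf_eq c ht Nat.prime_three (by norm_num) hto
    ((A5.card_centralizer _ (c.d.sign_act ⟨t, ht⟩) h1).1 h2) (card_D c ht h3 ht1)

theorem card_z_five {t : G} (ht : t ∈ cen z) (hto : orderOf t = 5) :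
    Nat.card (cen z ⊓ cen t : Subgroup G) = 10 := by
  have h5 : t ^ 5 = 1 := by rw [← hto, pow_orderOf_eq_one]
  have ht1 : t ≠ 1 := fun e => by rw [e, orderOf_one] at hto; norm_num at hto
  obtain ⟨h1, h2⟩ := act_ne_one c ht (n := 5) ⟨2, rfl⟩ h5 ht1
  refine card_inf_eq (m := 2) c ht Nat.prime_five (by norm_num) hto
    ((A5.card_centralizer _ (c.d.sign_act ⟨t, ht⟩) h1).2 h2) ?_
  have : (Q ⊓ cen t : Subgroup G) = Subgroup.zpowers z := by
    refine le_antisymm (fun q hq => ?_) (Subgroup.zpowers_le.2 ⟨c.d.hyp.ci.mem, mem_cen.2 (mem_cen.1 ht).symm⟩)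
    by_cases hq1 : q = 1
    · rw [hq1]; exact one_mem _
    by_cases hqz : q = z
    · rw [hqz]; exact Subgroup.mem_zpowers _
    exact absurd (mem_cen.1 hq.2).symm (c.d.hyp.not_fixed hto ht hq.1 hq1 hqz)
  rw [this, Nat.card_zpowers, c.d.hyp.ci.order_two]

theorem D_max {t : G} (ht : t ∈ cen z) (hto : orderOf t = 3) :
    ∀ P : Subgroup G, IsPGroup 2 P → Q ⊓ cen t ≤ P → P ≤ cen t → P = Q ⊓ cen t := by
  haveI : Fact (Nat.Prime 2) := ⟨Nat.prime_two⟩
  intro P hP hDP hPt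
  have h3 : t ^ 3 = 1 := by rw [← hto, pow_orderOf_eq_one]
  have ht1 : t ≠ 1 := fun e => by rw [e, orderOf_one] at hto; norm_num at hto
  obtain ⟨h1, h2⟩ := act_ne_one c ht (n := 3) ⟨1, rfl⟩ h3 ht1
  -- elements of 2-power order centralising `z` and `t` lie in `Q`
  have key : ∀ w ∈ P, w ∈ cen z → w ∈ Q := by
    intro w hw hwz
    refine (c.d.mem_ker_iff ⟨w, hwz⟩).1 ?_
    obtain ⟨j, hj⟩ := hP ⟨w, hw⟩
    have hj' : w ^ 2 ^ j = 1 := congrArg Subtype.val hj
    have hcard := (A5.card_centralizer _ (c.d.sign_act ⟨t, ht⟩) h1).1 h2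
    set σ := c.d.act ⟨t, ht⟩
    set a := c.d.act ⟨w, hwz⟩
    have ha2 : a ^ 2 ^ j = 1 := by
      rw [← map_pow]; exact (congrArg c.d.act (Subtype.ext hj')).trans (map_one _)
    have hmemA : a ∈ Finset.univ.filter fun b : A5.P5 => Equiv.Perm.sign b = 1 ∧ b * σ = σ * b :=
      Finset.mem_filter.2 ⟨Finset.mem_univ _, c.d.sign_act _, by
        show c.d.act _ * c.d.act _ = c.d.act _ * c.d.act _
        rw [← map_mul, ← map_mul]; exact congrArg c.d.act (Subtype.ext (mem_cen.1 (hPt hw)))⟩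
    have hsub : ({1, σ, σ * σ} : Finset A5.P5) ⊆
        Finset.univ.filter fun b : A5.P5 => Equiv.Perm.sign b = 1 ∧ b * σ = σ * b := by
      intro b hb
      simp only [Finset.mem_insert, Finset.mem_singleton] at hb
      refine Finset.mem_filter.2 ⟨Finset.mem_univ _, ?_⟩
      rcases hb with rfl | rfl | rfl
      · simp
      · exact ⟨c.d.sign_act _, rfl⟩
      · exact ⟨by rw [map_mul, c.d.sign_act]; rfl, by rw [mul_assoc]⟩
    have h33 : σ * σ * σ = 1 := by rw [← pow_two, ← pow_succ]; exact h2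
    have hσ2 : σ ≠ σ * σ := fun e => h1 (mul_left_cancel (e.symm.trans (mul_one σ).symm))
    have hσ3 : (1 : A5.P5) ≠ σ * σ := fun e => h1 (by rw [← h33, ← e, one_mul])
    have heq := Finset.eq_of_subset_of_card_le hsub (by
      rw [hcard, Finset.card_insert_of_notMem (by simp [Ne.symm h1, hσ3]), Finset.card_pair hσ2])
    rw [← heq] at hmemA
    simp only [Finset.mem_insert, Finset.mem_singleton] at hmemA
    have hcop : Nat.Coprime 3 (2 ^ j) := Nat.Coprime.pow_right _ (by norm_num)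
    rcases hmemA with h | h | h
    · exact h
    · exact absurd (orderOf_eq_one_iff.1 (Nat.eq_one_of_dvd_coprimes hcop (orderOf_dvd_of_pow_eq_one h2)
        (orderOf_dvd_of_pow_eq_one (h ▸ ha2)))) h1
    · refine absurd (orderOf_eq_one_iff.1 (Nat.eq_one_of_dvd_coprimes hcop
        (orderOf_dvd_of_pow_eq_one (?_ : a ^ 3 = 1)) (orderOf_dvd_of_pow_eq_one ha2))) (fun e => hσ3 (e.symm.trans h))
      rw [h, ← pow_two, ← pow_mul, mul_comm, pow_mul, h2, one_pow]
  refine le_antisymm ?_ hDP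
  have hzD : z ∈ Q ⊓ cen t := ⟨c.d.hyp.ci.mem, mem_cen.2 (mem_cen.1 ht).symm⟩
  haveI : Nontrivial P := ⟨⟨⟨z, hDP hzD⟩, 1, fun e => c.d.hyp.ci.ne_one (congrArg Subtype.val e)⟩⟩
  haveI := hP.center_nontrivial
  obtain ⟨⟨⟨w, hwP⟩, hwc⟩, hw1⟩ := exists_ne (1 : Subgroup.center P)
  have hcomm : ∀ b ∈ P, b * w = w * b := fun b hb =>
    congrArg Subtype.val (Subgroup.mem_center_iff.1 hwc ⟨b, hb⟩)
  have hwQ : w ∈ Q := key w hwP (mem_cen.2 (hcomm z (hDP hzD)).symm)
  have hwz : w = z := by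
    by_cases hs : supp p w = ∅
    · exact (c.d.supp_eq_empty hwQ hs).resolve_left fun e => hw1 (Subtype.ext (Subtype.ext e))
    exfalso
    obtain ⟨-, hfix⟩ := A5.invariant_sets _ (c.d.sign_act ⟨t, ht⟩) h2 h1
    obtain ⟨m, hm, hσm⟩ := hfix _ (c.d.supp_even hwQ) ((mem_D_iff c ht h3 hwQ).1 (hPt hwP)) hs
    refine mem_supp.1 hm ?_
    have hpm : p m ∈ Q ⊓ cen t := ⟨c.d.mem m, (mem_D_iff c ht h3 (c.d.mem m)).2 (by
      rw [c.d.supp_p, Finset.map_erase, Finset.map_univ_equiv]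
      exact congrArg (Finset.univ.erase ·) hσm)⟩
    exact hcomm _ (hDP hpm)
  intro b hb
  exact ⟨key b hb (mem_cen.2 (by rw [← hwz]; exact hcomm b hb)), hPt hb⟩

theorem isConj_z_of_cen {t : G} (ht : t ∈ cen z) (hto : orderOf t = 3) {w : G} (hw : w ∈ cen t)
    (hw2 : w * w = 1) (hw1 : w ≠ 1) : IsConj z w := by
  haveI : Fact (Nat.Prime 2) := ⟨Nat.prime_two⟩
  have hp : IsPGroup 2 (Q ⊓ cen t : Subgroup G) := IsPGroup.of_card (n := 3) (by
    rw [card_D c ht (by rw [← hto, pow_orderOf_eq_one]) (fun e => by rw [e, orderOf_one] at hto; norm_num at hto)]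
    norm_num)
  obtain ⟨h, -, hD⟩ := exists_conj_mem inf_le_right hp (D_max c ht hto) hw (isPGroup_zpowers_of_sq hw2)
  refine (c.d.isConj_z_of_mem hD.1 ?_ fun e => hw1 (conj_eq_one_iff.1 e)).trans (Invol.isConj_conj h w).symm
  calc h * w * h⁻¹ * (h * w * h⁻¹) = h * (w * w) * h⁻¹ := by group
    _ = 1 := by rw [hw2]; group

end AtZ

end Cfsg.Agent.J2Loc
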