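import Cfsg.Agent.J2Loc.Cent
import Cfsg.Agent.PGroup.Extraspecial
import Mathlib.GroupTheory.IndexNormal

/-!
General counting tools for normalisers and centralisers.
-/

set_option autoImplicit false
set_option linter.style.haveILetI false
set_option linter.unusedSectionVars false

namespace Cfsg.Agent.J2Loc

open Cfsg.Agent.J2Type (commute_conj_iff)

variable {G : Type*} [Group G] [Finite G]

/-- Centraliser of a subgroup, as a short name. -/
abbrev cenS (P : Subgroup G) : Subgroup G := Subgroup.centralizer (P : Set G)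

/-- Normaliser of a subgroup, as a short name. -/
abbrev nor (P : Subgroup G) : Subgroup G := Subgroup.normalizer (P : Set G)

theorem mem_nor_of_conj {P : Subgroup G} {w : G} (h : ∀ a ∈ P, w * a * w⁻¹ ∈ P) : w ∈ nor P := by
  rw [nor, ← TwoFusion.map_conj_eq_self_iff_mem_normalizer]
  refine Subgroup.eq_of_le_of_card_ge ?_ (le_of_eq ?_)
  · rintro _ ⟨a, ha, rfl⟩; exact h a ha
  · rw [Subgroup.card_map_of_injective (MulAut.conj w).injective]

theorem conj_mem_of_nor {P : Subgroup G} {w : G} (hw : w ∈ nor P) {a : G} (ha : a ∈ P) : w * a * w⁻¹ ∈ P :=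
  (Subgroup.mem_normalizer_iff.1 hw a).1 ha

theorem mem_cen_of_mem_zpowers {a b : G} (hb : b ∈ Subgroup.zpowers a) : b ∈ cen a := by
  obtain ⟨n, rfl⟩ := hb
  exact mem_cen.2 ((Commute.refl a).zpow_left n).eq

theorem cen_le_of_mem_zpowers {a b : G} (hb : b ∈ Subgroup.zpowers a) : cen a ≤ cen b := by
  intro w hw
  obtain ⟨n, rfl⟩ := hb
  exact mem_cen.2 ((show Commute w a from mem_cen.1 hw).zpow_right n).eq

theorem cen_eq_of_zpowers_eq {a b : G} (h : Subgroup.zpowers a = Subgroup.zpowers b) : cen a = cen b :=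
  le_antisymm (cen_le_of_mem_zpowers (h ▸ Subgroup.mem_zpowers b))
    (cen_le_of_mem_zpowers (h.symm ▸ Subgroup.mem_zpowers a))

theorem zpowers_eq_of_mem {q : ℕ} (hq : q.Prime) {a b : G} (ha : orderOf a = q)
    (hb : b ∈ Subgroup.zpowers a) (hb1 : b ≠ 1) : Subgroup.zpowers b = Subgroup.zpowers a := by
  refine Subgroup.eq_of_le_of_card_ge (Subgroup.zpowers_le.2 hb) ?_
  rw [Nat.card_zpowers, Nat.card_zpowers, ha]
  have h1 : orderOf b ∣ q := ha ▸ orderOf_dvd_of_mem_zpowers hb
  rcases (Nat.dvd_prime hq).1 h1 with h | h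
  · exact absurd (orderOf_eq_one_iff.1 h) hb1
  · exact h.ge

theorem card_sylow_of {q k m : ℕ} [hq : Fact q.Prime] (P : Sylow q G) (hG : Nat.card G = q ^ k * m)
    (hm : ¬ q ∣ m) : Nat.card P = q ^ k := by
  have hm0 : m ≠ 0 := fun e => hm (e ▸ dvd_zero q)
  rw [P.card_eq_multiplicity, hG, Nat.factorization_mul (pow_ne_zero _ hq.out.ne_zero) hm0,
    hq.out.factorization_pow, Finsupp.add_apply, Finsupp.single_eq_same,
    Nat.factorization_eq_zero_of_not_dvd hm, add_zero]

/-- The Sylow count inside a subgroup. -/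
theorem sylow_count {q : ℕ} [hq : Fact q.Prime] {H P : Subgroup G} (hPH : P ≤ H) (hP : IsPGroup q P)
    (hidx : ¬ q ∣ (P.subgroupOf H).index) :
    ∃ n, n % q = 1 ∧ n * Nat.card (nor P ⊓ H : Subgroup G) = Nat.card H := by
  let S : Sylow q H := (hP.of_equiv (Subgroup.subgroupOfEquivOfLe hPH).symm).toSylow hidx
  have hS : (S : Subgroup H) = P.subgroupOf H := rfl
  refine ⟨Nat.card (Sylow q H), ?_, ?_⟩
  · have h := card_sylow_modEq_one q H
    rwa [Nat.ModEq, Nat.mod_eq_of_lt hq.out.one_lt] at h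
  · rw [S.card_eq_index_normalizer, mul_comm]
    have e : Nat.card (Subgroup.normalizer ((S : Subgroup H) : Set H)) = Nat.card (nor P ⊓ H : Subgroup G) := by
      have e1 : Subgroup.normalizer ((S : Subgroup H) : Set H) = (nor P).subgroupOf H := by
        ext w
        rw [Subgroup.mem_subgroupOf, Subgroup.mem_normalizer_iff, hS]
        constructor
        · intro h
          refine mem_nor_of_conj fun a ha => ?_
          exact (h ⟨a, hPH ha⟩).1 ha
        · intro h a
          exact Subgroup.mem_normalizer_iff.1 h (a : G)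
      rw [e1, ← Subgroup.inf_subgroupOf_right]
      exact Nat.card_congr (Subgroup.subgroupOfEquivOfLe inf_le_right).toEquiv
    rw [← e]
    exact Subgroup.card_mul_index _

/-- Counting by the images of one element under conjugation. -/
theorem card_le_mul_of_conj (N : Subgroup G) (a : G) (S : Finset G) (hS : ∀ w ∈ N, w * a * w⁻¹ ∈ S) :
    Nat.card N ≤ S.card * Nat.card (N ⊓ cen a : Subgroup G) ∧
    (Nat.card N = S.card * Nat.card (N ⊓ cen a : Subgroup G) → ∀ s ∈ S, ∃ w ∈ N, w * a * w⁻¹ = s) := by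
  classical
  let im : N → S := fun w => ⟨_, hS w w.2⟩
  let sec : S → N := fun s => if h : ∃ w : N, im w = s then h.choose else 1
  have hsec : ∀ w : N, im (sec (im w)) = im w := fun w => by
    have h : ∃ w' : N, im w' = im w := ⟨w, rfl⟩
    simp only [sec, dif_pos h]
    exact h.choose_spec
  let f : N → S × (N ⊓ cen a : Subgroup G) := fun w =>
    (im w, ⟨(sec (im w) : G)⁻¹ * w, Subgroup.mem_inf.2 ⟨mul_mem (inv_mem (sec (im w)).2) w.2, mem_cen.2 (by
      have h : (sec (im w) : G) * a * (sec (im w) : G)⁻¹ = (w : G) * a * (w : G)⁻¹ :=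
        congrArg Subtype.val (hsec w)
      calc (sec (im w) : G)⁻¹ * w * a = (sec (im w) : G)⁻¹ * ((w : G) * a * (w : G)⁻¹) * w := by group
        _ = a * ((sec (im w) : G)⁻¹ * w) := by rw [← h]; group)⟩⟩)
  have hf : Function.Injective f := by
    intro w w' h
    have h1 : im w = im w' := congrArg Prod.fst h
    have h2 : (sec (im w) : G)⁻¹ * w = (sec (im w') : G)⁻¹ * w' :=
      congrArg Subtype.val (congrArg Prod.snd h)
    rw [h1] at h2
    exact Subtype.ext (mul_left_cancel h2)
  have hle := Nat.card_le_card_of_injective f hf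
  rw [Nat.card_prod, Nat.card_eq_finsetCard] at hle
  refine ⟨hle, fun he s hs => ?_⟩
  have hb := hf.bijective_of_nat_card_le (by rw [Nat.card_prod, Nat.card_eq_finsetCard, he])
  obtain ⟨w, hw⟩ := hb.2 (⟨s, hs⟩, ⟨1, one_mem _⟩)
  exact ⟨w, w.2, congrArg Subtype.val (congrArg Prod.fst hw)⟩

/-- A subgroup in which one element is sent exactly to itself and its inverse. -/
theorem card_of_inverting {N : Subgroup G} {a j : G} (hj : j ∈ N) (hja : j * a * j⁻¹ = a⁻¹)
    (hne : a⁻¹ ≠ a) (h : ∀ w ∈ N, w * a * w⁻¹ = a ∨ w * a * w⁻¹ = a⁻¹) :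
    Nat.card N = 2 * Nat.card (N ⊓ cen a : Subgroup G) := by
  classical
  refine le_antisymm ?_ ?_
  · have := (card_le_mul_of_conj N a {a, a⁻¹} fun w hw => by
      rcases h w hw with e | e <;> simp [e]).1
    rwa [Finset.card_pair hne.symm] at this
  · let f : Bool × (N ⊓ cen a : Subgroup G) → N := fun q =>
      ⟨(if q.1 then j else 1) * q.2, mul_mem (by split <;> [exact hj; exact one_mem _]) q.2.2.1⟩
    have key : ∀ (b : Bool) (w : (N ⊓ cen a : Subgroup G)),
        ((f (b, w) : N) : G) * a * ((f (b, w) : N) : G)⁻¹ = if b then a⁻¹ else a := by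
      intro b w
      have hw : (w : G) * a * (w : G)⁻¹ = a := mul_inv_eq_iff_eq_mul.2 (mem_cen.1 w.2.2)
      cases b
      · simpa [f] using hw
      · calc _ = j * ((w : G) * a * (w : G)⁻¹) * j⁻¹ := by simp [f, mul_assoc]
          _ = _ := by rw [hw, hja]; rfl
    have hf : Function.Injective f := by
      rintro ⟨b, w⟩ ⟨b', w'⟩ e
      have h1 := key b w
      rw [e, key b' w'] at h1
      have hb : b = b' := by
        cases b <;> cases b' <;> simp at h1 <;> first | rfl | exact absurd h1 hne | exact absurd h1.symm hne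
      subst hb
      have h2 := mul_left_cancel (congrArg Subtype.val e : _ * (w : G) = _ * (w' : G))
      exact Prod.ext rfl (Subtype.ext h2)
    have := Nat.card_le_card_of_injective f hf
    rwa [Nat.card_prod, Nat.card_eq_fintype_card, Fintype.card_bool] at this

/-- Inside a subgroup two Sylow subgroups are conjugate: the argument of Frattini. -/
theorem exists_fix_sylow {q : ℕ} [hq : Fact q.Prime] {H P : Subgroup G} (hPH : P ≤ H) (hP : IsPGroup q P)
    (hidx : ¬ q ∣ (P.subgroupOf H).index) {j : G} (hj : ∀ a ∈ H, j * a * j⁻¹ ∈ H) :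
    ∃ h ∈ H, h * j ∈ nor P := by
  let S : Sylow q H := (hP.of_equiv (Subgroup.subgroupOfEquivOfLe hPH).symm).toSylow hidx
  have hS : (S : Subgroup H) = P.subgroupOf H := rfl
  let P' : Subgroup G := P.map (MulAut.conj j).toMonoidHom
  have hP'H : P' ≤ H := by rintro _ ⟨a, ha, rfl⟩; exact hj a (hPH ha)
  obtain ⟨T, hT⟩ := ((hP.map (MulAut.conj j).toMonoidHom).of_equiv
    (Subgroup.subgroupOfEquivOfLe hP'H).symm).exists_le_sylow
  obtain ⟨g, hg⟩ := MulAction.exists_smul_eq H T S
  refine ⟨g, g.2, mem_nor_of_conj fun a ha => ?_⟩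
  have h1 : (⟨j * a * j⁻¹, hj a (hPH ha)⟩ : H) ∈ (T : Subgroup H) := hT ⟨a, ha, rfl⟩
  have h2 : g * ⟨j * a * j⁻¹, hj a (hPH ha)⟩ * g⁻¹ ∈ (S : Subgroup H) := by
    rw [← hg, Sylow.coe_subgroup_smul, Subgroup.mem_pointwise_smul_iff_inv_smul_mem]
    simpa [MulAut.smul_def, MulAut.conj_apply, mul_assoc] using h1
  rw [hS, Subgroup.mem_subgroupOf] at h2
  simpa [mul_assoc] using h2

theorem card_map_conj (g : G) (P : Subgroup G) :
    Nat.card (P.map (MulAut.conj g).toMonoidHom) = Nat.card P :=
  Subgroup.card_map_of_injective (MulAut.conj g).injective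

theorem cenS_map_conj (g : G) (P : Subgroup G) :
    cenS (P.map (MulAut.conj g).toMonoidHom) = (cenS P).map (MulAut.conj g).toMonoidHom := by
  ext w
  rw [Subgroup.mem_map_equiv, Subgroup.mem_centralizer_iff, Subgroup.mem_centralizer_iff]
  simp only [MulAut.conj_symm_apply]
  constructor
  · intro h a ha
    have := h _ ⟨a, ha, rfl⟩
    refine commute_conj_iff (g := g).1 ?_
    rw [show g * (g⁻¹ * w * g) * g⁻¹ = w by group]
    exact this
  · rintro h _ ⟨a, ha, rfl⟩
    have := commute_conj_iff (g := g).2 (h a ha)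
    rwa [show g * (g⁻¹ * w * g) * g⁻¹ = w by group] at this

theorem card_nor_map_conj (g : G) (P : Subgroup G) :
    Nat.card (nor (P.map (MulAut.conj g).toMonoidHom)) = Nat.card (nor P) := by
  rw [← card_map_conj g (nor P), nor, nor,
    Subgroup.map_normalizer_eq_of_bijective P (f := (MulAut.conj g).toMonoidHom) (MulAut.conj g).bijective]

theorem sylow_conj {q : ℕ} [hq : Fact q.Prime] (P P₀ : Sylow q G) :
    ∃ g : G, (P : Subgroup G) = (P₀ : Subgroup G).map (MulAut.conj g).toMonoidHom := by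
  obtain ⟨g, rfl⟩ := MulAction.exists_smul_eq G P₀ P
  exact ⟨g, rfl⟩

/-- A nonabelian group of order the cube of a prime is extraspecial. -/
theorem isExtraspecial_cube {X : Type*} [Group X] [Finite X] {q : ℕ} [hq : Fact q.Prime]
    (hX : Nat.card X = q ^ 3) (hna : ¬ IsMulCommutative X) :
    Cfsg.IsExtraspecial q X ∧ Nat.card (Subgroup.center X) = q := by
  have hp : IsPGroup q X := IsPGroup.of_card hX
  haveI : Nontrivial X := Finite.one_lt_card_iff_nontrivial.1 (by
    rw [hX]; exact Nat.one_lt_pow (by norm_num) hq.out.one_lt)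
  obtain ⟨k, hk, hZ⟩ := IsPGroup.card_center_eq_prime_pow hX (by norm_num)
  have hmul := Subgroup.card_eq_card_quotient_mul_card_subgroup (Subgroup.center X)
  rw [hX, hZ] at hmul
  have hcyc : ¬ IsCyclic (X ⧸ Subgroup.center X) := fun h => hna (isMulCommutative_of_isCyclic_quotient_center_self X)
  have hk1 : k = 1 := by
    by_contra hne
    refine hcyc ?_
    have hdvd : Nat.card (X ⧸ Subgroup.center X) ∣ q := by
      refine ⟨q ^ (k - 2), ?_⟩
      have h2 : q ^ k = q ^ (k - 2) * q ^ 2 := by rw [← pow_add]; congr 1; omega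
      refine Nat.eq_of_mul_eq_mul_right (Nat.pos_of_ne_zero (pow_ne_zero 2 hq.out.ne_zero)) ?_
      rw [mul_assoc, ← h2, ← hmul]
      ring
    rcases (Nat.dvd_prime hq.out).1 hdvd with h | h
    · haveI := (Nat.card_eq_one_iff_unique.1 h).1
      exact isCyclic_of_subsingleton
    · exact isCyclic_of_prime_card h
  subst hk1
  rw [pow_one] at hZ
  have hquo : Nat.card (X ⧸ Subgroup.center X) = q ^ 2 := by
    refine Nat.eq_of_mul_eq_mul_right hq.out.pos ?_
    rw [pow_one] at hmul
    rw [← hmul]; ring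
  haveI hab := IsPGroup.isMulCommutative_of_card_eq_prime_sq hquo
  have hc : commutator X ≤ Subgroup.center X :=
    Subgroup.Normal.quotient_commutative_iff_commutator_le.1 hab
  refine ⟨Cfsg.Agent.PGroup.isExtraspecial_of_center hp hZ hna hc fun y => ?_, hZ⟩
  refine (QuotientGroup.eq_one_iff _).1 ?_
  rw [QuotientGroup.mk_pow]
  by_contra hne
  refine hcyc (isCyclic_of_orderOf_eq_card (QuotientGroup.mk y) ?_)
  have h1 : (QuotientGroup.mk y : X ⧸ Subgroup.center X) ^ q ^ 2 = 1 := by rw [← hquo, pow_card_eq_one']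
  rw [hquo]
  exact orderOf_eq_prime_pow (n := 1) (by rwa [pow_one]) (by simpa using h1)

end Cfsg.Agent.J2Loc
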