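import Cfsg.Agent.J2Loc.Bsw
import Cfsg.Agent.J2Loc.Tools
import Mathlib.GroupTheory.Transfer

/-!
The Sylow 5-subgroup and the two classes of subgroups of order 5.
-/

set_option autoImplicit false
set_option linter.style.haveILetI false
set_option linter.unusedSectionVars false

namespace Cfsg.Agent.J2Loc

open Cfsg Cfsg.Agent.LargeExtra Cfsg.Agent.J2Type

variable {G : Type*} [Group G] [Finite G]

theorem three_not_comm {P : Subgroup G} (hP : cenS P = P) (hcard : Nat.card P = 25) {w : G}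
    (hw : w ∈ nor P) (ho : orderOf w = 3) {e : G} (he : e ∈ P) (he1 : e ≠ 1) : w * e * w⁻¹ ≠ e := by
  intro hwe
  haveI : Fact (Nat.Prime 5) := ⟨Nat.prime_five⟩
  haveI hab : IsMulCommutative P := IsPGroup.isMulCommutative_of_card_eq_prime_sq (p := 5) (by rw [hcard]; rfl)
  have hw3 : w ^ 3 = 1 := by rw [← ho, pow_orderOf_eq_one]
  let θ : P →* P :=
    { toFun := fun a => ⟨w * a * w⁻¹ * (a : G)⁻¹, mul_mem (conj_mem_of_nor hw a.2) (inv_mem a.2)⟩
      map_one' := Subtype.ext (by simp)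
      map_mul' := fun a b => Subtype.ext (by
        have hcm := fun (u v : P) => congrArg Subtype.val (hab.is_comm.comm u v)
        have h1 : (a : G)⁻¹ * (w * b * w⁻¹) = w * b * w⁻¹ * (a : G)⁻¹ := hcm a⁻¹ ⟨_, conj_mem_of_nor hw b.2⟩
        have h2 : (b : G)⁻¹ * (a : G)⁻¹ = (a : G)⁻¹ * (b : G)⁻¹ := hcm b⁻¹ a⁻¹
        show w * ((a : G) * b) * w⁻¹ * ((a : G) * b)⁻¹ =
          w * a * w⁻¹ * (a : G)⁻¹ * (w * b * w⁻¹ * (b : G)⁻¹)
        rw [mul_inv_rev, h2]
        calc w * ((a : G) * b) * w⁻¹ * ((a : G)⁻¹ * (b : G)⁻¹)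
            = w * a * w⁻¹ * (w * b * w⁻¹ * (a : G)⁻¹) * (b : G)⁻¹ := by group
          _ = w * a * w⁻¹ * ((a : G)⁻¹ * (w * b * w⁻¹)) * (b : G)⁻¹ := by rw [h1]
          _ = _ := by group) }
  have hker : (⟨e, he⟩ : P) ∈ θ.ker := Subtype.ext (show w * e * w⁻¹ * e⁻¹ = 1 by rw [hwe, mul_inv_cancel])
  have hmul : Nat.card θ.ker * Nat.card θ.range = 25 := by
    rw [← Subgroup.index_ker, Subgroup.card_mul_index, hcard]
  have hk : 5 ≤ Nat.card θ.ker := by
    have h := θ.ker.orderOf_dvd_natCard hker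
    have h' : orderOf (⟨e, he⟩ : P) ∣ 5 ^ 2 := by
      have := orderOf_dvd_natCard (⟨e, he⟩ : P)
      rwa [hcard] at this
    obtain ⟨i, -, hi⟩ := (Nat.dvd_prime_pow Nat.prime_five).1 h'
    rcases Nat.eq_zero_or_pos i with rfl | hi0
    · exact absurd (congrArg Subtype.val (orderOf_eq_one_iff.1 (hi.trans (pow_zero 5)))) he1
    · rw [hi] at h
      exact le_trans (Nat.le_self_pow hi0.ne' 5) (Nat.le_of_dvd Nat.card_pos h)
  have hr5 : ∀ d ∈ θ.range, (d : P) ^ 5 = 1 := by
    intro d hd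
    have hle : Nat.card θ.range ≤ 5 := by nlinarith
    have h : Nat.card θ.range ∣ 5 ^ 2 := ⟨Nat.card θ.ker, by rw [mul_comm _ (Nat.card θ.ker), hmul]; rfl⟩
    obtain ⟨i, -, hi⟩ := (Nat.dvd_prime_pow Nat.prime_five).1 h
    have hi1 : i ≤ 1 := (Nat.pow_le_pow_iff_right (by norm_num : 1 < 5)).1 (by rw [← hi, pow_one]; exact hle)
    refine orderOf_dvd_iff_pow_eq_one.1 ?_
    refine (θ.range.orderOf_dvd_natCard hd).trans ?_
    rw [hi]
    exact (pow_dvd_pow 5 hi1).trans (pow_one 5).dvd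
  have hrfix : ∀ d ∈ θ.range, w * (d : G) * w⁻¹ = d := by
    intro d hd
    by_cases hd1 : d = 1
    · subst hd1; simp
    have hod : orderOf d = 5 := orderOf_eq_prime (hr5 d hd) hd1
    have hwd : (⟨w * d * w⁻¹, conj_mem_of_nor hw d.2⟩ : P) ∈ θ.range := by
      obtain ⟨a, rfl⟩ := hd
      refine ⟨⟨_, conj_mem_of_nor hw a.2⟩, Subtype.ext ?_⟩
      show w * (w * a * w⁻¹) * w⁻¹ * (w * a * w⁻¹)⁻¹ = w * (w * a * w⁻¹ * (a : G)⁻¹) * w⁻¹
      group
    have hzr : Subgroup.zpowers d = θ.range := by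
      refine Subgroup.eq_of_le_of_card_ge (Subgroup.zpowers_le.2 hd) ?_
      rw [Nat.card_zpowers, hod]
      nlinarith
    rw [← hzr, ← mem_powers_iff_mem_zpowers] at hwd
    obtain ⟨m, hm⟩ := hwd
    have hm' : (d : G) ^ m = w * d * w⁻¹ := congrArg Subtype.val hm
    have hit : ∀ k : ℕ, w ^ k * (d : G) * (w ^ k)⁻¹ = (d : G) ^ m ^ k := by
      intro k
      induction k with
      | zero => simp
      | succ k ih =>
        calc w ^ (k + 1) * (d : G) * (w ^ (k + 1))⁻¹ = w * (w ^ k * (d : G) * (w ^ k)⁻¹) * w⁻¹ := by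
              rw [pow_succ']; group
          _ = (w * (d : G) * w⁻¹) ^ m ^ k := by rw [ih, conj_pow]
          _ = (d : G) ^ m ^ (k + 1) := by rw [← hm', ← pow_mul, pow_succ']
    have h3 := hit 3
    rw [hw3, one_mul, inv_one, mul_one] at h3
    have hdo : orderOf (d : G) = 5 := by rw [Subgroup.orderOf_coe, hod]
    have hmod : m ^ 3 % 5 = 1 := by
      have h4 : (d : G) ^ 1 = (d : G) ^ m ^ 3 := by rw [pow_one]; exact h3
      rw [pow_eq_pow_iff_modEq, hdo] at h4
      exact h4.symm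
    have hm1 : m % 5 = 1 := by
      rw [Nat.pow_mod] at hmod
      have h5 : ∀ r : ℕ, r < 5 → r ^ 3 % 5 = 1 → r = 1 := by decide
      exact h5 _ (Nat.mod_lt m (by norm_num)) hmod
    rw [← hm', ← pow_mod_orderOf, hdo, hm1, pow_one]
  have hcenw : w ∈ cenS P := fun a ha => by
    let d : G := w * a * w⁻¹ * a⁻¹
    have hd : w * d * w⁻¹ = d := hrfix (θ ⟨a, ha⟩) ⟨_, rfl⟩
    have hd5 : d ^ 5 = 1 := congrArg Subtype.val (hr5 (θ ⟨a, ha⟩) ⟨_, rfl⟩)
    have h1 : ∀ k : ℕ, w ^ k * a * (w ^ k)⁻¹ = d ^ k * a := by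
      intro k
      induction k with
      | zero => simp
      | succ k ih =>
        calc w ^ (k + 1) * a * (w ^ (k + 1))⁻¹ = w * (w ^ k * a * (w ^ k)⁻¹) * w⁻¹ := by
              rw [pow_succ']; group
          _ = (w * d * w⁻¹) ^ k * (w * a * w⁻¹) := by rw [ih, conj_pow]; group
          _ = d ^ k * (d * a) := by rw [hd, show d * a = w * a * w⁻¹ from inv_mul_cancel_right _ _]
          _ = d ^ (k + 1) * a := by rw [pow_succ]; group
    have h3 := h1 3
    rw [hw3, one_mul, inv_one, mul_one] at h3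
    have hd3 : d ^ 3 = 1 := mul_eq_right.1 h3.symm
    have hd1 : d = 1 := by
      have := Nat.eq_one_of_dvd_coprimes (show Nat.Coprime 5 3 by norm_num) (orderOf_dvd_of_pow_eq_one hd5)
        (orderOf_dvd_of_pow_eq_one hd3)
      exact orderOf_eq_one_iff.1 this
    exact (mul_inv_eq_iff_eq_mul.1 (mul_inv_eq_one.1 hd1)).symm
  rw [hP] at hcenw
  have h25 : orderOf w ∣ 25 := hcard ▸ P.orderOf_dvd_natCard hcenw
  rw [ho] at h25
  norm_num at h25

namespace Loc

variable {z : G} {Q : Subgroup G} {p : Fin 5 → G} {x : G} {c : Cfg z Q p x} {K : Subgroup G}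
  {ι : K →* A5.P5} (L : Loc c K ι)
include L

theorem exists_five : ∃ f : K, orderOf f = 5 ∧ ι f = A5.f₀ := by
  obtain ⟨-, -, -, -, -, -, -, -, c5, c5', -⟩ := A5.consts
  obtain ⟨f, hf⟩ := L.el_exists A5.sign_consts.2.2.2.2
  haveI := Fact.mk Nat.prime_five
  exact ⟨f, orderOf_eq_prime (L.inj (by rw [map_pow, hf, c5, map_one]))
    fun e => c5' (by rw [← hf, e, map_one]), hf⟩

theorem card_G' : Nat.card G = 604800 := c.card_G

theorem card_sylow_five (P : Sylow 5 G) : Nat.card P = 25 := by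
  haveI := Fact.mk Nat.prime_five
  rw [card_sylow_of P (k := 2) (m := 24192) (by rw [L.card_G']; norm_num) (by norm_num)]
  norm_num

theorem card_cen_five {f : K} (ho : orderOf f = 5) : Nat.card (cen (f : G)) = 300 := by
  obtain ⟨r, hr3, hrK, hrx, hrV⟩ := L.exists_r
  rcases L.bsw_dichotomy (Or.inr rfl) ho with hn | h
  · exfalso
    haveI := Fact.mk Nat.prime_five
    have h60 := L.card_normal_case (Or.inr rfl) ho hr3 hrK hrx hrV hn
    have hp : IsPGroup 5 (Subgroup.zpowers (f : G)) :=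
      IsPGroup.of_card (n := 1) (by rw [Nat.card_zpowers, Subgroup.orderOf_coe, ho, pow_one])
    obtain ⟨P, hP⟩ := hp.exists_le_sylow
    have hc : Nat.card P = 25 := L.card_sylow_five P
    haveI hab : IsMulCommutative P := IsPGroup.isMulCommutative_of_card_eq_prime_sq (p := 5) (by rw [hc]; rfl)
    have hle : (P : Subgroup G) ≤ cen (f : G) := fun a ha => mem_cen.2
      (congrArg Subtype.val (hab.is_comm.comm ⟨a, ha⟩ ⟨f, hP (Subgroup.mem_zpowers _)⟩))
    have := Subgroup.card_dvd_of_le hle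
    rw [h60, show Nat.card (P : Subgroup G) = 25 from hc] at this
    norm_num at this
  · rw [h]

theorem sylow_five_le {f : K} {P : Sylow 5 G} (hfP : (f : G) ∈ (P : Subgroup G)) :
    (P : Subgroup G) ≤ cen (f : G) := by
  haveI := Fact.mk Nat.prime_five
  haveI hab : IsMulCommutative P :=
    IsPGroup.isMulCommutative_of_card_eq_prime_sq (p := 5) (by rw [L.card_sylow_five P]; rfl)
  exact fun a ha => mem_cen.2 (congrArg Subtype.val (hab.is_comm.comm ⟨a, ha⟩ ⟨f, hfP⟩))

theorem card_nor_inf_cen {f : K} (ho : orderOf f = 5) {P : Sylow 5 G} (hfP : (f : G) ∈ (P : Subgroup G)) :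
    Nat.card (nor (P : Subgroup G) ⊓ cen (f : G) : Subgroup G) = 50 := by
  haveI := Fact.mk Nat.prime_five
  have hle := L.sylow_five_le hfP
  have hc : Nat.card (P : Subgroup G) = 25 := L.card_sylow_five P
  haveI hab : IsMulCommutative (P : Subgroup G) :=
    IsPGroup.isMulCommutative_of_card_eq_prime_sq (p := 5) (by rw [hc]; rfl)
  obtain ⟨n, hn1, hn⟩ := sylow_count hle P.isPGroup' (by
    rw [← Sylow.coe_subtype P hle]; exact (P.subtype hle).not_dvd_index)
  obtain ⟨k, hk⟩ := Subgroup.card_dvd_of_le (le_inf Subgroup.le_normalizer hle :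
    (P : Subgroup G) ≤ nor (P : Subgroup G) ⊓ cen (f : G))
  rw [hc] at hk
  rw [L.card_cen_five ho, hk] at hn
  have hnk : n * k = 12 := by
    have : n * (25 * k) = 25 * (n * k) := by ring
    omega
  have hle12 := Nat.le_of_dvd (by norm_num) (⟨k, hnk.symm⟩ : n ∣ 12)
  rw [hk]
  rcases (by interval_cases n <;> omega : n = 1 ∨ n = 6) with rfl | rfl
  swap
  · omega
  exfalso
  have hC : nor (P : Subgroup G) ⊓ cen (f : G) = cen (f : G) :=
    Subgroup.eq_of_le_of_card_ge inf_le_right (by rw [L.card_cen_five ho, hk]; omega)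
  -- the four-group would invert the Sylow subgroup modulo the subgroup of order five
  obtain ⟨a, ha, ha1, hax⟩ := L.exists_second
  have hVN : ∀ v ∈ L.V, v ∈ nor (P : Subgroup G) := fun v hv => (hC.ge (L.V_le_cen f hv)).1
  have hfix : ∀ v ∈ L.V, v ≠ 1 → ∀ b ∈ (P : Subgroup G), b * v = v * b → b ∈ Subgroup.zpowers (f : G) := by
    intro v hv hv1 b hb hbv
    have hsub : Subgroup.zpowers (f : G) ≤ (P : Subgroup G) ⊓ cen v :=
      Subgroup.zpowers_le.2 ⟨hfP, mem_cen.2 ((L.mem_V.1 hv).2 f f.2).symm⟩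
    have hd := Subgroup.card_dvd_of_le (inf_le_left : (P : Subgroup G) ⊓ cen v ≤ P)
    have hd' := Subgroup.card_dvd_of_le (inf_le_right : (P : Subgroup G) ⊓ cen v ≤ cen v)
    rw [card_cen_of_isConj (L.V_isConj hv hv1), show Nat.card (cen x) = 240 from c.card_H L.comp] at hd'
    rw [hc] at hd
    have h5 : Nat.card ((P : Subgroup G) ⊓ cen v : Subgroup G) ≤ 5 :=
      Nat.le_of_dvd (by norm_num) (Nat.dvd_gcd hd hd')
    rw [Subgroup.eq_of_le_of_card_ge hsub (by rw [Nat.card_zpowers, Subgroup.orderOf_coe, ho]; exact h5)]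
    exact ⟨hb, mem_cen.2 hbv⟩
  have key : ∀ v ∈ L.V, v ≠ 1 → ∀ b ∈ (P : Subgroup G), v * b * v * b ∈ Subgroup.zpowers (f : G) := by
    intro v hv hv1 b hb
    have hvi : v⁻¹ = v := inv_eq_of_mul_eq_one_right (L.V_sq hv)
    have hbv : v * b * v ∈ (P : Subgroup G) := by
      have := conj_mem_of_nor (hVN v hv) hb
      rwa [hvi] at this
    refine hfix v hv hv1 _ (mul_mem hbv hb) ?_
    have hcm : v * b * v * b = b * (v * b * v) := congrArg Subtype.val (hab.is_comm.comm ⟨_, hbv⟩ ⟨b, hb⟩)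
    calc v * b * v * b * v = b * (v * b * v) * v := by rw [hcm]
      _ = b * v * b * (v * v) := by group
      _ = (v * v) * (b * v * b) := by rw [L.V_sq hv, mul_one, one_mul]
      _ = v * (v * b * v * b) := by group
  have hall : (P : Subgroup G) ≤ Subgroup.zpowers (f : G) := by
    intro b hb
    have hxa : x * a ∈ L.V := mul_mem L.x_mem_V ha
    have hxa1 : x * a ≠ 1 := fun e => hax (by
      rw [eq_inv_of_mul_eq_one_right e, inv_eq_of_mul_eq_one_right c.outer.1])
    have hxi : x⁻¹ = x := inv_eq_of_mul_eq_one_right c.outer.1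
    have hai : a⁻¹ = a := inv_eq_of_mul_eq_one_right (L.V_sq ha)
    set F := Subgroup.zpowers (f : G)
    have hcf : ∀ v ∈ L.V, ∀ d ∈ F, v * d * v⁻¹ = d := fun v hv d hd => by
      obtain ⟨i, rfl⟩ := hd
      exact mul_inv_eq_iff_eq_mul.2 ((show Commute v (f : G) from (L.mem_V.1 hv).2 f f.2).zpow_right i).eq
    have m1 := key x L.x_mem_V c.x_ne_one b hb
    have m2 := key a ha ha1 b hb
    have m3 := key (x * a) hxa hxa1 b hb
    -- `x b x` is `d₁ b⁻¹`, and so on
    have m2' : x * (a * b * a * b) * x⁻¹ ∈ F := by rw [hcf x L.x_mem_V _ m2]; exact m2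
    have e : (x * a * b * (x * a) * b) = (x * (a * b * a * b) * x⁻¹) * (x * b * x * b)⁻¹ * (b * b) := by
      have h1 : x * b * x ∈ (P : Subgroup G) := by
        have := conj_mem_of_nor (hVN x L.x_mem_V) hb
        rwa [hxi] at this
      have h2 : b * (x * b * x) = x * b * x * b := congrArg Subtype.val (hab.is_comm.comm ⟨b, hb⟩ ⟨_, h1⟩)
      have e1 : (x * b * x * b)⁻¹ = x * b⁻¹ * x * b⁻¹ := by rw [← h2]; simp [hxi, mul_assoc]
      calc x * a * b * (x * a) * b = x * a * b * (a * x) * b := by rw [L.V_comm L.x_mem_V ha]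
        _ = x * a * b * a * b * (x * x) * b⁻¹ * x * b⁻¹ * (b * b) := by rw [c.outer.1]; group
        _ = _ := by rw [e1, hxi]; group
    rw [e] at m3
    have hbb : b * b ∈ F := (F.mul_mem_cancel_left (mul_mem m2' (inv_mem m1))).1 m3
    have hb25 : b ^ 25 = 1 := by
      have := pow_card_eq_one' (G := (P : Subgroup G)) (x := ⟨b, hb⟩)
      rw [hc] at this
      exact congrArg Subtype.val this
    have : b = (b * b) ^ 13 := by
      rw [← pow_two, ← pow_mul, show 2 * 13 = 25 + 1 by rfl, pow_succ, hb25, one_mul]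
    rw [this]; exact pow_mem hbb 13
  have := Subgroup.card_dvd_of_le hall
  rw [hc, Nat.card_zpowers, Subgroup.orderOf_coe, ho] at this
  norm_num at this

theorem cenS_five (P : Sylow 5 G) : cenS (P : Subgroup G) = P := by
  haveI := Fact.mk Nat.prime_five
  haveI := Fact.mk Nat.prime_two
  obtain ⟨f, ho, -⟩ := L.exists_five
  have hp : IsPGroup 5 (Subgroup.zpowers (f : G)) :=
    IsPGroup.of_card (n := 1) (by rw [Nat.card_zpowers, Subgroup.orderOf_coe, ho, pow_one])
  obtain ⟨P₀, hP₀⟩ := hp.exists_le_sylow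
  have hc : Nat.card (P₀ : Subgroup G) = 25 := L.card_sylow_five P₀
  haveI hab : IsMulCommutative (P₀ : Subgroup G) :=
    IsPGroup.isMulCommutative_of_card_eq_prime_sq (p := 5) (by rw [hc]; rfl)
  have hfP : (f : G) ∈ (P₀ : Subgroup G) := hP₀ (Subgroup.mem_zpowers _)
  have hself : (P₀ : Subgroup G) ≤ cenS (P₀ : Subgroup G) := fun a ha b hb =>
    congrArg Subtype.val (hab.is_comm.comm ⟨b, hb⟩ ⟨a, ha⟩)
  have h1 : cenS (P₀ : Subgroup G) = P₀ := by
    have hle : cenS (P₀ : Subgroup G) ≤ nor (P₀ : Subgroup G) ⊓ cen (f : G) := fun w hw =>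
      ⟨mem_nor_of_conj fun a ha => by rwa [← hw a ha, mul_inv_cancel_right], mem_cen.2 (hw f hfP).symm⟩
    have h3 := Subgroup.card_dvd_of_le hle
    rw [L.card_nor_inf_cen ho hfP] at h3
    -- no involution centralises a Sylow 5-subgroup
    have h2 : ¬ 2 ∣ Nat.card (cenS (P₀ : Subgroup G)) := by
      intro h
      obtain ⟨⟨w, hw⟩, hwo⟩ := exists_prime_orderOf_dvd_card' 2 h
      have hwo' : orderOf w = 2 := by rw [← hwo, Subgroup.orderOf_mk]
      have hw1 : w ≠ 1 := fun e => by rw [e, orderOf_one] at hwo'; norm_num at hwo'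
      have hx := L.isConj_x_of_cen (Or.inr rfl) ho (hle hw).2 (sq_of_orderOf hwo') hw1
      have hPw : (P₀ : Subgroup G) ≤ cen w := fun a ha => mem_cen.2 (hw a ha)
      have := Subgroup.card_dvd_of_le hPw
      rw [card_cen_of_isConj hx, show Nat.card (cen x) = 240 from c.card_H L.comp, hc] at this
      norm_num at this
    refine (Subgroup.eq_of_le_of_card_ge hself ?_).symm
    rw [hc]
    exact Nat.le_of_dvd (by norm_num)
      ((((Nat.prime_two.coprime_iff_not_dvd).2 h2).symm).dvd_of_dvd_mul_left (m := 2) (by simpa using h3))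
  obtain ⟨g, hg⟩ := sylow_conj P P₀
  rw [hg, cenS_map_conj, h1]

end Loc

end Cfsg.Agent.J2Loc
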