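import Cfsg.Agent.J2Loc.FiveY

/-!
The normaliser of a Sylow 5-subgroup and the two classes of subgroups of order 5.
-/

set_option autoImplicit false
set_option linter.style.haveILetI false
set_option linter.unusedSectionVars false

namespace Cfsg.Agent.J2Loc

open Cfsg Cfsg.Agent.LargeExtra Cfsg.Agent.J2Type

variable {G : Type*} [Group G] [Finite G]

theorem zpowers_conj (g a : G) {b : G} (hb : b ∈ Subgroup.zpowers a) :
    g * b * g⁻¹ ∈ Subgroup.zpowers (g * a * g⁻¹) := by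
  obtain ⟨n, rfl⟩ := hb
  exact ⟨n, (conj_zpow).trans rfl⟩

namespace Loc

variable {z : G} {Q : Subgroup G} {p : Fin 5 → G} {x : G} {c : Cfg z Q p x} {K : Subgroup G}
  {ι : K →* A5.P5} (L : Loc c K ι)
include L

theorem exists_to_x {v : G} (hv : v ∈ L.V) (hv1 : v ≠ 1) :
    ∃ R : G, (∀ k ∈ K, R * k = k * R) ∧ R * v * R⁻¹ = x := by
  obtain ⟨r, hr3, hrK, hrx, hrV⟩ := L.exists_r
  by_cases h0 : v = x
  · exact ⟨1, fun k _ => by simp, by simp [h0]⟩
  by_cases h1 : r * v * r⁻¹ = x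
  · exact ⟨r, hrK, h1⟩
  refine ⟨r * r, fun k hk => ((show Commute r k from hrK k hk).mul_left (hrK k hk)).eq, ?_⟩
  have hfix : r * v * r⁻¹ ≠ v := by
    intro e
    have : r ∈ cen v := mem_cen.2 (mul_inv_eq_iff_eq_mul.1 e)
    rw [cen, L.centralizer_V hv hv1, Subgroup.mem_centralizer_singleton_iff] at this
    exact hrx this
  have hu := hrV v hv
  have hu1 : r * v * r⁻¹ ≠ 1 := fun e => hv1 (conj_eq_one_iff.1 e)
  have huv : r * v * r⁻¹ = x * v :=
    (((L.V_cases hv hv1 h0 hu).resolve_left hu1).resolve_left h1).resolve_left hfix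
  have e2 : r * r * v * (r * r)⁻¹ = r * (r * v * r⁻¹) * r⁻¹ := by group
  rw [e2]
  rcases L.V_cases hv hv1 h0 (hrV _ hu) with e | e | e | e
  · exact absurd (conj_eq_one_iff.1 e) hu1
  · exact e
  · exfalso
    rw [← e2] at e
    have hrr : r * r ∈ cen v := mem_cen.2 (mul_inv_eq_iff_eq_mul.1 e)
    rw [cen, L.centralizer_V hv hv1] at hrr
    have hr4 : r = (r * r) * (r * r) := by
      rw [show r * r * (r * r) = r ^ 3 * r by simp only [pow_succ, pow_zero, one_mul, mul_assoc], ← hr3, pow_orderOf_eq_one, one_mul]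
    have := mul_mem hrr hrr
    rw [← hr4, Subgroup.mem_centralizer_singleton_iff] at this
    exact hrx this
  · exfalso
    rw [← huv] at e
    exact hfix ((MulAut.conj r).injective (show r * (r * v * r⁻¹) * r⁻¹ = r * v * r⁻¹ from e))

theorem not_conj_sq {f : K} (ho : orderOf f = 5) (hf : ι f = A5.f₀) (w : G) :
    w * (f : G) * w⁻¹ ≠ (f : G) ^ 2 := by
  intro hw
  haveI := Fact.mk Nat.prime_two
  have hfo : orderOf (f : G) = 5 := by rw [Subgroup.orderOf_coe, ho]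
  have hcen : cen ((f : G) ^ 2) = cen (f : G) := by
    refine cen_eq_of_zpowers_eq (zpowers_eq_of_mem Nat.prime_five hfo (Subgroup.npow_mem_zpowers _ 2) ?_)
    intro e
    have := orderOf_dvd_of_pow_eq_one e
    rw [hfo] at this
    norm_num at this
  have hxC : w * x * w⁻¹ ∈ cen (f : G) := by
    rw [← hcen, mem_cen, ← hw]
    exact commute_conj_iff.2 (Subgroup.mem_centralizer_singleton_iff.1 (L.comp.le f.2)).symm
  have hwx2 : w * x * w⁻¹ * (w * x * w⁻¹) = 1 := by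
    calc w * x * w⁻¹ * (w * x * w⁻¹) = w * (x * x) * w⁻¹ := by group
      _ = 1 := by rw [c.outer.1]; group
  obtain ⟨h, hh, hV⟩ := exists_conj_mem (L.V_le_cen f) L.V_isPGroup (L.V_max (Or.inr rfl) ho) hxC
    (isPGroup_zpowers_of_sq hwx2)
  have hv1 : h * (w * x * w⁻¹) * h⁻¹ ≠ 1 := fun e => c.x_ne_one (conj_eq_one_iff.1 (conj_eq_one_iff.1 e))
  obtain ⟨R, hRK, hR⟩ := L.exists_to_x hV hv1
  set u := R * h * w with hu
  have hux : u * x = x * u := mul_inv_eq_iff_eq_mul.1 (by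
    calc u * x * u⁻¹ = R * (h * (w * x * w⁻¹) * h⁻¹) * R⁻¹ := by rw [hu]; group
      _ = x := hR)
  have huf : u * (f : G) * u⁻¹ = (f : G) ^ 2 := by
    calc u * (f : G) * u⁻¹ = R * (h * (w * (f : G) * w⁻¹) * h⁻¹) * R⁻¹ := by rw [hu]; group
      _ = R * (f : G) ^ 2 * R⁻¹ := by
          rw [hw, mul_inv_eq_iff_eq_mul.2 (((show Commute h (f : G) from mem_cen.1 hh).pow_right 2).eq)]
      _ = (f : G) ^ 2 := mul_inv_eq_iff_eq_mul.2 (hRK _ (pow_mem f.2 2))
  obtain ⟨v, hv, k, hk, hvk⟩ := L.decomp hux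
  have hkf : k * (f : G) * k⁻¹ = (f : G) ^ 2 := by
    rw [← huf, hvk]
    have hc := (L.mem_V.1 hv).2 (k * (f : G) * k⁻¹) (mul_mem (mul_mem hk f.2) (inv_mem hk))
    calc k * (f : G) * k⁻¹ = v * (k * (f : G) * k⁻¹) * v⁻¹ := by rw [hc, mul_inv_cancel_right]
      _ = _ := by group
  refine A5.five_not_sq (ι ⟨k, hk⟩) (L.sign _) ?_
  rw [← hf, ← map_inv, ← map_mul, ← map_mul, ← map_mul]
  refine congrArg ι (Subtype.ext ?_)
  show k * (f : G) * k⁻¹ = (f : G) * f
  rw [hkf, pow_two]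

theorem inv_or_self {f : K} (ho : orderOf f = 5) (hf : ι f = A5.f₀) {w : G}
    (hw : w * (f : G) * w⁻¹ ∈ Subgroup.zpowers (f : G)) :
    w * (f : G) * w⁻¹ = f ∨ w * (f : G) * w⁻¹ = (f : G)⁻¹ := by
  have hfo : orderOf (f : G) = 5 := by rw [Subgroup.orderOf_coe, ho]
  have h5 : (f : G) ^ 5 = 1 := by rw [← hfo, pow_orderOf_eq_one]
  rw [← mem_powers_iff_mem_zpowers] at hw
  obtain ⟨m, hm⟩ := hw
  have hm' : (f : G) ^ (m % 5) = w * (f : G) * w⁻¹ := by
    rw [← hfo, pow_mod_orderOf]; exact hm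
  have hlt := Nat.mod_lt m (by norm_num : 0 < 5)
  have hne : m % 5 ≠ 0 := fun e => by
    rw [e, pow_zero] at hm'
    have := conj_eq_one_iff.1 hm'.symm
    rw [this, orderOf_one] at hfo
    norm_num at hfo
  rcases (by omega : m % 5 = 1 ∨ m % 5 = 2 ∨ m % 5 = 3 ∨ m % 5 = 4) with e | e | e | e <;> rw [e] at hm'
  · exact Or.inl (by rw [← hm', pow_one])
  · exact absurd hm'.symm (L.not_conj_sq ho hf w)
  · refine absurd ?_ (L.not_conj_sq ho hf w⁻¹)
    have h2 : w * (f : G) ^ 2 * w⁻¹ = f := by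
      rw [← conj_pow, ← hm', ← pow_mul, show 3 * 2 = 5 + 1 by rfl, pow_succ, h5, one_mul]
    calc w⁻¹ * (f : G) * w⁻¹⁻¹ = w⁻¹ * (w * (f : G) ^ 2 * w⁻¹) * w := by rw [h2, inv_inv]
      _ = _ := by group
  · refine Or.inr ?_
    rw [← hm', eq_inv_iff_mul_eq_one, ← pow_succ, h5]

theorem card_nor_five {f : K} (ho : orderOf f = 5) (hf : ι f = A5.f₀) {P : Sylow 5 G}
    (hfP : (f : G) ∈ (P : Subgroup G)) : Nat.card (nor (P : Subgroup G)) = 300 := by
  classical
  haveI := Fact.mk Nat.prime_five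
  haveI : Fintype G := Fintype.ofFinite G
  have hfo : orderOf (f : G) = 5 := by rw [Subgroup.orderOf_coe, ho]
  have h5 : (f : G) ^ 5 = 1 := by rw [← hfo, pow_orderOf_eq_one]
  set F := Subgroup.zpowers (f : G)
  set N := nor (P : Subgroup G)
  set S100 := N ⊓ nor F
  -- an inverting element of the normaliser
  obtain ⟨b, hb, hb2, -, hbf⟩ := A5.invert_five
  obtain ⟨j, hj⟩ := L.el_exists hb
  have hjf : (j : G) * (f : G) * (j : G)⁻¹ = (f : G)⁻¹ := by
    have : j * f * j⁻¹ = f⁻¹ := L.inj (by rw [map_mul, map_mul, map_inv, map_inv, hj, hf, hbf])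
    exact congrArg Subtype.val this
  have hjC : ∀ a ∈ cen (f : G), (j : G) * a * (j : G)⁻¹ ∈ cen (f : G) := by
    intro a ha
    have h1 : (j : G) * a * (j : G)⁻¹ ∈ cen ((j : G) * f * (j : G)⁻¹) := mem_cen_conj.2 ha
    rw [hjf] at h1
    exact cen_le_of_mem_zpowers (by simp) h1
  have hle := L.sylow_five_le hfP
  obtain ⟨h, hh, hhj⟩ := exists_fix_sylow hle P.isPGroup'
    (by rw [← Sylow.coe_subtype P hle]; exact (P.subtype hle).not_dvd_index) hjC
  have hwf : h * (j : G) * (f : G) * (h * (j : G))⁻¹ = (f : G)⁻¹ := by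
    calc h * (j : G) * (f : G) * (h * (j : G))⁻¹ = h * ((j : G) * f * (j : G)⁻¹) * h⁻¹ := by group
      _ = _ := by rw [hjf, mul_inv_eq_iff_eq_mul.2 ((show Commute h (f : G) from mem_cen.1 hh).inv_right).eq]
  have hnorF : ∀ w : G, w * (f : G) * w⁻¹ ∈ F → w ∈ nor F := fun w hw => mem_nor_of_conj fun a ha => by
    exact Subgroup.zpowers_le.2 hw (zpowers_conj w _ ha)
  have hinvne : (f : G)⁻¹ ≠ f := fun e => by
    have : (f : G) ^ 2 = 1 := by rw [pow_two]; nth_rw 1 [← e]; rw [inv_mul_cancel]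
    have := orderOf_dvd_of_pow_eq_one this
    rw [hfo] at this
    norm_num at this
  have hS : Nat.card S100 = 100 := by
    rw [card_of_inverting (N := S100) ⟨hhj, hnorF _ (by rw [hwf]; exact inv_mem (Subgroup.mem_zpowers _))⟩ hwf
      hinvne fun w hw => L.inv_or_self ho hf (conj_mem_of_nor hw.2 (Subgroup.mem_zpowers _))]
    have e : S100 ⊓ cen (f : G) = N ⊓ cen (f : G) := by
      ext w
      simp only [S100, Subgroup.mem_inf]
      constructor
      · rintro ⟨⟨h1, -⟩, h2⟩; exact ⟨h1, h2⟩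
      · rintro ⟨h1, h2⟩
        exact ⟨⟨h1, hnorF _ (by rw [mul_inv_eq_iff_eq_mul.2 (mem_cen.1 h2)]; exact Subgroup.mem_zpowers _)⟩, h2⟩
    rw [e, L.card_nor_inf_cen ho hfP]
  obtain ⟨k, hk⟩ := Subgroup.card_dvd_of_le (inf_le_left : S100 ≤ N)
  rw [hS] at hk
  -- the orbit of `f`
  let S := Finset.univ.filter fun a : G => ∃ w ∈ N, w * (f : G) * w⁻¹ = a
  have horb := (card_le_mul_of_conj N (f : G) S fun w hw =>
    Finset.mem_filter.2 ⟨Finset.mem_univ _, w, hw, rfl⟩).1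
  rw [L.card_nor_inf_cen ho hfP] at horb
  -- an element of the other class in `P`
  haveI := Fact.mk (show Nat.Prime 5 from Nat.prime_five)
  have hd5 : 5 ∣ Nat.card (cen z) := by rw [c.d.hyp.cardC]; norm_num
  obtain ⟨⟨y₀, hy₀⟩, hyo⟩ := exists_prime_orderOf_dvd_card' 5 hd5
  rw [Subgroup.orderOf_mk] at hyo
  have hy50 := L.card_cen_five' hy₀ hyo
  obtain ⟨P', hP'⟩ := (IsPGroup.of_card (p := 5) (n := 1)
    (by rw [Nat.card_zpowers, hyo, pow_one] : Nat.card (Subgroup.zpowers y₀) = 5 ^ 1)).exists_le_sylow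
  obtain ⟨g, hg⟩ := sylow_conj P P'
  set y := g * y₀ * g⁻¹ with hy
  have hyP : y ∈ (P : Subgroup G) := hg ▸ ⟨y₀, hP' (Subgroup.mem_zpowers _), rfl⟩
  have hyo' : orderOf y = 5 := (Invol.orderOf_eq_of_isConj (Invol.isConj_conj g y₀)).symm.trans hyo
  have hy50' : Nat.card (cen y) = 50 := by rw [hy, card_cen_conj, hy50]
  let T := Finset.univ.filter fun a : G => a ∈ (P : Subgroup G) ∧ a ≠ 1
  have hT : T.card = 24 := by
    have : T = (Finset.univ.filter fun a : G => a ∈ (P : Subgroup G)).erase 1 := by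
      ext a; simp [T, and_comm]
    rw [this, Finset.card_erase_of_mem (by simp), ← Fintype.card_subtype, ← Nat.card_eq_fintype_card]
    show Nat.card (P : Subgroup G) - 1 = 24
    rw [show Nat.card (P : Subgroup G) = 25 from L.card_sylow_five P]
  let Y := Finset.univ.filter fun a : G => a ∈ Subgroup.zpowers y ∧ a ≠ 1
  have hY : Y.card = 4 := by
    have : Y = (Finset.univ.filter fun a : G => a ∈ Subgroup.zpowers y).erase 1 := by
      ext a; simp [Y, and_comm]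
    rw [this, Finset.card_erase_of_mem (by simp), ← Fintype.card_subtype, ← Nat.card_eq_fintype_card]
    show Nat.card (Subgroup.zpowers y) - 1 = 4
    rw [Nat.card_zpowers, hyo']
  have hSmem : ∀ a ∈ S, a ∈ (P : Subgroup G) ∧ a ≠ 1 ∧ a ^ 5 = 1 ∧ Nat.card (cen a) = 300 := by
    intro a ha
    obtain ⟨w, hw, rfl⟩ := (Finset.mem_filter.1 ha).2
    refine ⟨conj_mem_of_nor hw hfP, fun e => ?_, by rw [conj_pow, h5]; group,
      by rw [card_cen_conj, L.card_cen_five ho]⟩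
    rw [conj_eq_one_iff.1 e, orderOf_one] at hfo
    norm_num at hfo
  let S2 := S.image fun a => a ^ 2
  have hS2 : S2.card = S.card := Finset.card_image_of_injOn fun a ha b hb e => by
    have e2 : (a ^ 2) ^ 3 = (b ^ 2) ^ 3 := congrArg (· ^ 3) e
    have h6 : ∀ d : G, d ^ 5 = 1 → (d ^ 2) ^ 3 = d := fun d hd => by
      rw [← pow_mul, show 2 * 3 = 5 + 1 by rfl, pow_succ, hd, one_mul]
    rwa [h6 a (hSmem a ha).2.2.1, h6 b (hSmem b hb).2.2.1] at e2
  have hd1 : Disjoint S S2 := by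
    rw [Finset.disjoint_left]
    intro a ha ha2
    obtain ⟨b, hb, hba⟩ := Finset.mem_image.1 ha2
    obtain ⟨w, -, rfl⟩ := (Finset.mem_filter.1 hb).2
    obtain ⟨w', -, rfl⟩ := (Finset.mem_filter.1 ha).2
    refine L.not_conj_sq ho hf (w⁻¹ * w') ?_
    calc w⁻¹ * w' * (f : G) * (w⁻¹ * w')⁻¹ = w⁻¹ * (w' * (f : G) * w'⁻¹) * w := by group
      _ = w⁻¹ * (w * (f : G) * w⁻¹) ^ 2 * w := by rw [hba]
      _ = _ := by rw [conj_pow]; group
  have hd2 : Disjoint (S ∪ S2) Y := by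
    rw [Finset.disjoint_left]
    intro a ha haY
    simp only [Y, Finset.mem_filter, Finset.mem_univ, true_and] at haY
    have h50 : Nat.card (cen a) = 50 := by
      rw [cen_eq_of_zpowers_eq (zpowers_eq_of_mem Nat.prime_five hyo' haY.1 haY.2), hy50']
    have h300 : Nat.card (cen a) = 300 := by
      rcases Finset.mem_union.1 ha with h' | h'
      · exact (hSmem a h').2.2.2
      · obtain ⟨b, hb, rfl⟩ := Finset.mem_image.1 h'
        obtain ⟨-, hb1, hb5, hb300⟩ := hSmem b hb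
        rw [cen_eq_of_zpowers_eq (zpowers_eq_of_mem Nat.prime_five (orderOf_eq_prime hb5 hb1)
          (Subgroup.npow_mem_zpowers b 2) haY.2), hb300]
    omega
  have hsub : S ∪ S2 ∪ Y ⊆ T := by
    intro a ha
    refine Finset.mem_filter.2 ⟨Finset.mem_univ _, ?_⟩
    rcases Finset.mem_union.1 ha with h' | h'
    · rcases Finset.mem_union.1 h' with h'' | h''
      · exact ⟨(hSmem a h'').1, (hSmem a h'').2.1⟩
      · obtain ⟨b, hb, rfl⟩ := Finset.mem_image.1 h''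
        obtain ⟨hbP, hb1, hb5, -⟩ := hSmem b hb
        refine ⟨pow_mem hbP 2, fun e => hb1 ?_⟩
        rwa [show b ^ 5 = b * (b ^ 2) ^ 2 by group, e, one_pow, mul_one] at hb5
    · obtain ⟨h1, h2⟩ := (Finset.mem_filter.1 h').2
      exact ⟨Subgroup.zpowers_le.2 hyP h1, h2⟩
  have hcount := Finset.card_le_card hsub
  rw [Finset.card_union_of_disjoint hd2, Finset.card_union_of_disjoint hd1, hS2, hY, hT] at hcount
  have hbound : Nat.card N ≤ 500 := horb.trans (by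
    calc S.card * 50 ≤ 10 * 50 := Nat.mul_le_mul (by omega) le_rfl
      _ = 500 := rfl)
  -- the Sylow count
  have hn := card_sylow_modEq_one 5 G
  have hidx := Subgroup.card_mul_index N
  have he : Nat.card (Sylow 5 G) = N.index := P.card_eq_index_normalizer
  rw [L.card_G', hk] at hidx
  rw [hk] at hbound ⊢
  rw [he, Nat.ModEq] at hn
  have hkle : k ≤ 5 := by omega
  have hkn : k * N.index = 6048 := by
    rw [mul_assoc] at hidx; omega
  interval_cases k <;> omega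

/-- Elements of order 5 in `G` fall into the conjugates of two cyclic groups. -/
theorem five_classes {f : K} (ho : orderOf f = 5) (hf : ι f = A5.f₀) {y₀ : G} (hyo : orderOf y₀ = 5)
    (hy50 : Nat.card (cen y₀) = 50) {u : G} (hu : orderOf u = 5) :
    ∃ g : G, g * u * g⁻¹ ∈ Subgroup.zpowers (f : G) ∨ g * u * g⁻¹ ∈ Subgroup.zpowers y₀ := by
  classical
  haveI := Fact.mk Nat.prime_five
  have hfo : orderOf (f : G) = 5 := by rw [Subgroup.orderOf_coe, ho]
  have hp : ∀ a : G, orderOf a = 5 → IsPGroup 5 (Subgroup.zpowers a) := fun a ha =>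
    IsPGroup.of_card (n := 1) (by rw [Nat.card_zpowers, ha, pow_one])
  obtain ⟨P, hP⟩ := (hp _ hfo).exists_le_sylow
  obtain ⟨P₁, hP₁⟩ := (hp _ hyo).exists_le_sylow
  obtain ⟨P₂, hP₂⟩ := (hp _ hu).exists_le_sylow
  obtain ⟨g₁, hg₁⟩ := sylow_conj P P₁
  obtain ⟨g₂, hg₂⟩ := sylow_conj P P₂
  set y := g₁ * y₀ * g₁⁻¹ with hy
  have hyP : y ∈ (P : Subgroup G) := hg₁ ▸ ⟨y₀, hP₁ (Subgroup.mem_zpowers _), rfl⟩
  have hu'P : g₂ * u * g₂⁻¹ ∈ (P : Subgroup G) := hg₂ ▸ ⟨u, hP₂ (Subgroup.mem_zpowers _), rfl⟩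
  have hu'1 : g₂ * u * g₂⁻¹ ≠ 1 := fun e => by rw [conj_eq_one_iff.1 e, orderOf_one] at hu; norm_num at hu
  have hfP : (f : G) ∈ (P : Subgroup G) := hP (Subgroup.mem_zpowers _)
  have hN := L.card_nor_five ho hf hfP
  haveI := Fact.mk Nat.prime_three
  obtain ⟨⟨w, hwN⟩, hwo⟩ := exists_prime_orderOf_dvd_card' 3 (show 3 ∣ Nat.card (nor (P : Subgroup G)) by
    rw [hN]; norm_num)
  rw [Subgroup.orderOf_mk] at hwo
  let e : Bool → G := fun b => if b then (f : G) else y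
  have heo : ∀ b, orderOf (e b) = 5 := by
    intro b; cases b
    · exact (Invol.orderOf_eq_of_isConj (Invol.isConj_conj g₁ y₀)).symm.trans hyo
    · exact hfo
  have heP : ∀ b, e b ∈ (P : Subgroup G) := by intro b; cases b <;> assumption
  have hecard : ∀ b, Nat.card (cen (e b)) = if b then 300 else 50 := by
    intro b; cases b
    · show Nat.card (cen y) = 50
      rw [hy, card_cen_conj, hy50]
    · exact L.card_cen_five ho
  let T : Bool × Fin 3 × Fin 4 → {a : (P : Subgroup G) // a ≠ 1} := fun q =>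
    ⟨⟨w ^ (q.2.1 : ℕ) * e q.1 ^ ((q.2.2 : ℕ) + 1) * (w ^ (q.2.1 : ℕ))⁻¹,
      conj_mem_of_nor (pow_mem hwN _) (pow_mem (heP _) _)⟩, fun h => by
      have h1 := conj_eq_one_iff.1 (congrArg Subtype.val h)
      have h2 := orderOf_dvd_of_pow_eq_one h1
      rw [heo] at h2
      have := Nat.le_of_dvd (by omega) h2
      omega⟩
  have hfix : ∀ b (i : ℕ), i % 3 ≠ 0 → ∀ j : ℕ, w ^ i * e b * (w ^ i)⁻¹ ≠ e b ^ j := by
    intro b i hi j hj
    have hwi : orderOf (w ^ i) = 3 := by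
      refine orderOf_eq_prime (by rw [← pow_mul, mul_comm, pow_mul, ← hwo, pow_orderOf_eq_one, one_pow]) ?_
      intro h
      have := orderOf_dvd_of_pow_eq_one h
      rw [hwo] at this; omega
    have hit : ∀ k : ℕ, (w ^ i) ^ k * e b * ((w ^ i) ^ k)⁻¹ = e b ^ j ^ k := by
      intro k
      induction k with
      | zero => simp
      | succ k ih =>
        calc (w ^ i) ^ (k + 1) * e b * ((w ^ i) ^ (k + 1))⁻¹ =
              w ^ i * ((w ^ i) ^ k * e b * ((w ^ i) ^ k)⁻¹) * (w ^ i)⁻¹ := by rw [pow_succ']; group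
          _ = (w ^ i * e b * (w ^ i)⁻¹) ^ j ^ k := by rw [ih, conj_pow]
          _ = e b ^ j ^ (k + 1) := by rw [hj, ← pow_mul, pow_succ']
    have h3 := hit 3
    rw [show (w ^ i) ^ 3 = 1 by rw [← hwi, pow_orderOf_eq_one], one_mul, inv_one, mul_one] at h3
    have h4 : e b ^ 1 = e b ^ j ^ 3 := by rw [pow_one]; exact h3
    rw [pow_eq_pow_iff_modEq, heo] at h4
    have h5 : ∀ r : ℕ, r < 5 → r ^ 3 % 5 = 1 → r = 1 := by decide
    have hj1 : j % 5 = 1 := h5 _ (Nat.mod_lt j (by norm_num)) (by rw [← Nat.pow_mod]; exact h4.symm)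
    rw [show e b ^ j = e b by rw [← pow_mod_orderOf, heo, hj1, pow_one]] at hj
    exact three_not_comm (L.cenS_five P) (L.card_sylow_five P) (pow_mem hwN i) hwi (heP b)
      (fun h => by have := heo b; rw [h, orderOf_one] at this; norm_num at this) hj
  have hT : Function.Injective T := by
    rintro ⟨b, i, m⟩ ⟨b', i', m'⟩ h
    have h' : w ^ (i : ℕ) * e b ^ ((m : ℕ) + 1) * (w ^ (i : ℕ))⁻¹ =
        w ^ (i' : ℕ) * e b' ^ ((m' : ℕ) + 1) * (w ^ (i' : ℕ))⁻¹ :=
      congrArg (fun a : {a : (P : Subgroup G) // a ≠ 1} => ((a : (P : Subgroup G)) : G)) h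
    have hne : ∀ b (m : Fin 4), e b ^ ((m : ℕ) + 1) ≠ 1 := fun b m h => by
      have := orderOf_dvd_of_pow_eq_one h
      rw [heo] at this
      have := Nat.le_of_dvd (by omega) this
      omega
    have hz : ∀ b (m : Fin 4), Subgroup.zpowers (e b ^ ((m : ℕ) + 1)) = Subgroup.zpowers (e b) := fun b m =>
      zpowers_eq_of_mem Nat.prime_five (heo b) (Subgroup.npow_mem_zpowers _ _) (hne b m)
    have hb : b = b' := by
      have h1 := congrArg (fun a : G => Nat.card (cen a)) h'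
      simp only [card_cen_conj, cen_eq_of_zpowers_eq (hz b m), cen_eq_of_zpowers_eq (hz b' m'), hecard] at h1
      cases b <;> cases b' <;> simp at h1 <;> rfl
    subst hb
    set k := ((i : ℕ) + 2 * (i' : ℕ)) with hk
    have hw3 : w ^ 3 = 1 := by rw [← hwo, pow_orderOf_eq_one]
    have hi : w ^ k = (w ^ (i' : ℕ))⁻¹ * w ^ (i : ℕ) := by
      rw [eq_inv_mul_iff_mul_eq, ← pow_add, show (i' : ℕ) + k = (i : ℕ) + 3 * i' by omega, pow_add, pow_mul,
        hw3, one_pow, mul_one]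
    have h2 : w ^ k * e b ^ ((m : ℕ) + 1) * (w ^ k)⁻¹ = e b ^ ((m' : ℕ) + 1) := by
      rw [hi]
      calc _ = (w ^ (i' : ℕ))⁻¹ * (w ^ (i : ℕ) * e b ^ ((m : ℕ) + 1) * (w ^ (i : ℕ))⁻¹) * w ^ (i' : ℕ) := by
            group
        _ = _ := by rw [h']; group
    have hk3 : k % 3 = 0 := by
      by_contra hk3
      have h3 : w ^ k * e b * (w ^ k)⁻¹ ∈ Subgroup.zpowers (e b) := by
        have hmem : e b ∈ Subgroup.zpowers (e b ^ ((m : ℕ) + 1)) := (hz b m).symm ▸ Subgroup.mem_zpowers _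
        have := zpowers_conj (w ^ k) _ hmem
        rw [h2, hz b m'] at this
        exact this
      rw [← mem_powers_iff_mem_zpowers] at h3
      obtain ⟨j, hj⟩ := h3
      exact hfix b k hk3 j hj.symm
    have hii : i = i' := Fin.ext (by omega)
    subst hii
    have h3 := mul_left_cancel (mul_right_cancel h')
    rw [pow_eq_pow_iff_modEq, heo] at h3
    have : m = m' := Fin.ext (by unfold Nat.ModEq at h3; omega)
    subst this
    rfl
  haveI : Fintype (P : Subgroup G) := Fintype.ofFinite _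
  have hbij := hT.bijective_of_nat_card_le (by
    rw [Nat.card_eq_fintype_card, Fintype.card_subtype_compl, Fintype.card_subtype_eq, ← Nat.card_eq_fintype_card,
      show Nat.card (P : Subgroup G) = 25 from L.card_sylow_five P]
    simp)
  obtain ⟨⟨b, i, m⟩, hq⟩ := hbij.2 ⟨⟨_, hu'P⟩, fun h => hu'1 (congrArg Subtype.val h)⟩
  have hq' : w ^ (i : ℕ) * e b ^ ((m : ℕ) + 1) * (w ^ (i : ℕ))⁻¹ = g₂ * u * g₂⁻¹ :=
    congrArg (fun a : {a : (P : Subgroup G) // a ≠ 1} => ((a : (P : Subgroup G)) : G)) hq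
  have hmain : (w ^ (i : ℕ))⁻¹ * g₂ * u * ((w ^ (i : ℕ))⁻¹ * g₂)⁻¹ = e b ^ ((m : ℕ) + 1) := by
    calc (w ^ (i : ℕ))⁻¹ * g₂ * u * ((w ^ (i : ℕ))⁻¹ * g₂)⁻¹
        = (w ^ (i : ℕ))⁻¹ * (g₂ * u * g₂⁻¹) * w ^ (i : ℕ) := by group
      _ = _ := by rw [← hq']; group
  cases b
  · refine ⟨g₁⁻¹ * ((w ^ (i : ℕ))⁻¹ * g₂), Or.inr ?_⟩
    have he : g₁⁻¹ * ((w ^ (i : ℕ))⁻¹ * g₂) * u * (g₁⁻¹ * ((w ^ (i : ℕ))⁻¹ * g₂))⁻¹ = y₀ ^ ((m : ℕ) + 1) := by
      calc _ = g₁⁻¹ * ((w ^ (i : ℕ))⁻¹ * g₂ * u * ((w ^ (i : ℕ))⁻¹ * g₂)⁻¹) * g₁ := by group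
        _ = g₁⁻¹ * y ^ ((m : ℕ) + 1) * g₁ := by rw [hmain]; rfl
        _ = _ := by rw [hy, conj_pow]; group
    rw [he]; exact Subgroup.npow_mem_zpowers _ _
  · exact ⟨_, Or.inl (hmain ▸ Subgroup.npow_mem_zpowers (f : G) _)⟩

end Loc

end Cfsg.Agent.J2Loc
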