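import Cfsg.Agent.J2Loc.Five

/-!
The centraliser of an element of order 5 commuting with the central involution has order 50.
-/

set_option autoImplicit false
set_option linter.style.haveILetI false
set_option linter.unusedSectionVars false

namespace Cfsg.Agent.J2Loc

open Cfsg Cfsg.Agent.LargeExtra Cfsg.Agent.J2Type

variable {G : Type*} [Group G] [Finite G]

/-- An odd complement to an involution with a Sylow subgroup of order two. -/
theorem exists_odd_half {H : Type*} [Group H] [Finite H] {w : H} (hw : orderOf w = 2)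
    (h4 : ¬ 4 ∣ Nat.card H) :
    ∃ M : Subgroup H, M.Normal ∧ 2 * Nat.card M = Nat.card H ∧ ¬ 2 ∣ Nat.card M ∧
      ∀ m : H, ∀ n : ℕ, Odd n → m ^ n = 1 → m ∈ M := by
  haveI := Fact.mk Nat.prime_two
  have hp : IsPGroup 2 (Subgroup.zpowers w) := IsPGroup.of_card (n := 1) (by rw [Nat.card_zpowers, hw, pow_one])
  have hmul := Subgroup.card_mul_index (Subgroup.zpowers w)
  rw [Nat.card_zpowers, hw] at hmul
  let T : Sylow 2 H := hp.toSylow fun h => h4 (by
    obtain ⟨k, hk⟩ := h
    exact ⟨k, by rw [← hmul, hk]; ring⟩)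
  have hT : (T : Subgroup H) = Subgroup.zpowers w := rfl
  have hw2 : w * w = 1 := sq_of_orderOf hw
  have hmemT : ∀ a ∈ (T : Subgroup H), a = 1 ∨ a = w := by
    intro a ha
    rw [hT, ← mem_powers_iff_mem_zpowers] at ha
    obtain ⟨k, rfl⟩ := ha
    show w ^ k = 1 ∨ w ^ k = w
    rw [← pow_mod_orderOf, hw]
    rcases Nat.mod_two_eq_zero_or_one k with h | h <;> simp [h]
  have hP : Subgroup.normalizer (T : Set H) ≤ Subgroup.centralizer (T : Set H) := by
    intro n hn a ha
    have hwT : w ∈ (T : Subgroup H) := hT ▸ Subgroup.mem_zpowers w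
    have hwn : n * w * n⁻¹ = w := by
      refine (hmemT _ ((Subgroup.mem_normalizer_iff.1 hn w).1 hwT)).resolve_left fun e => ?_
      rw [conj_eq_one_iff.1 e, orderOf_one] at hw
      norm_num at hw
    rcases hmemT a ha with rfl | rfl
    · simp
    · exact (mul_inv_eq_iff_eq_mul.1 hwn).symm
  set f := MonoidHom.transferSylow T hP
  refine ⟨f.ker, inferInstance, ?_, MonoidHom.not_dvd_card_ker_transferSylow T hP, fun m n hn hm => ?_⟩
  · rw [← (MonoidHom.ker_transferSylow_isComplement' T hP).card_mul_card,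
      show Nat.card (T : Subgroup H) = 2 by rw [hT, Nat.card_zpowers, hw], mul_comm]
  · have h1 : f m ^ n = 1 := by rw [← map_pow, hm, map_one]
    have h2 : f m ^ 2 = 1 := Subtype.ext (by
      show (f m : H) ^ 2 = 1
      rcases hmemT _ (f m).2 with e | e <;> rw [e, pow_two]
      · simp
      · exact hw2)
    exact orderOf_eq_one_iff.1 (Nat.eq_one_of_dvd_coprimes (Nat.coprime_two_left.2 hn)
      (orderOf_dvd_of_pow_eq_one h2) (orderOf_dvd_of_pow_eq_one h1))

namespace Loc

variable {z : G} {Q : Subgroup G} {p : Fin 5 → G} {x : G} {c : Cfg z Q p x} {K : Subgroup G}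
  {ι : K →* A5.P5} (L : Loc c K ι)
include L

theorem card_cen_five' {y : G} (hy : y ∈ cen z) (ho : orderOf y = 5) : Nat.card (cen y) = 50 := by
  classical
  haveI := Fact.mk Nat.prime_two
  haveI := Fact.mk Nat.prime_five
  set H := cen y
  have hzH : z ∈ H := mem_cen.2 (mem_cen.1 hy).symm
  have h10 := card_z_five c hy ho
  let zH : H := ⟨z, hzH⟩
  have hzo : orderOf zH = 2 := by rw [Subgroup.orderOf_mk]; exact c.d.hyp.ci.order_two
  have h4 : ¬ 4 ∣ Nat.card H := by
    intro h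
    obtain ⟨S, hS, hle⟩ := Sylow.exists_subgroup_card_pow_succ (p := 2) (n := 1) (G := H)
      (by norm_num; exact h) (H := Subgroup.zpowers zH) (by rw [Nat.card_zpowers, hzo, pow_one])
    haveI hab : IsMulCommutative S := IsPGroup.isMulCommutative_of_card_eq_prime_sq (p := 2) hS
    have hsub : S.map H.subtype ≤ cen z ⊓ cen y := by
      rintro _ ⟨s, hs, rfl⟩
      exact ⟨mem_cen.2 (congrArg (fun a : S => ((a : H) : G))
        (hab.is_comm.comm ⟨s, hs⟩ ⟨zH, hle (Subgroup.mem_zpowers _)⟩)), s.2⟩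
    have := Subgroup.card_dvd_of_le hsub
    rw [Subgroup.card_map_of_injective H.subtype_injective, hS, h10] at this
    norm_num at this
  obtain ⟨M', hM'n, hM'c, hM'o, hM'mem⟩ := exists_odd_half hzo h4
  set M : Subgroup G := M'.map H.subtype with hM
  have hMcard : Nat.card M = Nat.card M' := Subgroup.card_map_of_injective H.subtype_injective
  have hMH : M ≤ H := Subgroup.map_subtype_le _
  have hnorm : ∀ g ∈ H, ∀ m ∈ M, g * m * g⁻¹ ∈ M := by
    rintro g hg _ ⟨m, hm, rfl⟩
    exact ⟨_, hM'n.conj_mem m hm ⟨g, hg⟩, rfl⟩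
  have hoddmem : ∀ m ∈ H, ∀ n : ℕ, Odd n → m ^ n = 1 → m ∈ M := fun m hm n hn h =>
    ⟨⟨m, hm⟩, hM'mem _ n hn (Subtype.ext h), rfl⟩
  have hyM : y ∈ M := hoddmem y (mem_cen.2 rfl) 5 ⟨2, rfl⟩ (by rw [← ho, pow_orderOf_eq_one])
  have hcent : ∀ d ∈ Subgroup.zpowers y, ∀ m ∈ H, d * m = m * d := fun d hd m hm =>
    (mem_cen.1 (cen_le_of_mem_zpowers hd hm)).symm
  -- fixed points of `z` on `M`
  have hfix : M ⊓ cen z ≤ Subgroup.zpowers y := by
    have hle : Subgroup.zpowers y ≤ M ⊓ cen z := Subgroup.zpowers_le.2 ⟨hyM, hy⟩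
    have hd : Nat.card (M ⊓ cen z : Subgroup G) ∣ 10 :=
      h10 ▸ Subgroup.card_dvd_of_le (fun w hw => ⟨hw.2, hMH hw.1⟩)
    have hodd : ¬ 2 ∣ Nat.card (M ⊓ cen z : Subgroup G) := fun h =>
      hM'o (hMcard ▸ h.trans (Subgroup.card_dvd_of_le inf_le_left))
    refine (Subgroup.eq_of_le_of_card_ge hle ?_).ge
    rw [Nat.card_zpowers, ho]
    exact Nat.le_of_dvd (by norm_num)
      ((((Nat.prime_two.coprime_iff_not_dvd).2 hodd).symm).dvd_of_dvd_mul_left (m := 2) (by simpa using hd))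
  have hz2 : z * z = 1 := c.d.hyp.ci.sq
  have hzi : z⁻¹ = z := c.d.hyp.ci.inv_eq
  -- every element is inverted modulo the subgroup of order five
  have hall : ∀ m ∈ M, z * m * z * m ∈ Subgroup.zpowers y := by
    haveI : Fintype G := Fintype.ofFinite G
    let I := Finset.univ.filter fun a : G => a ∈ M ∧ z * a * z = a⁻¹
    let S := Finset.univ.filter fun s : G => s * z ∈ I
    have hS : ∀ w ∈ M, w * z * w⁻¹ ∈ S := by
      intro w hw
      simp only [S, I, Finset.mem_filter, Finset.mem_univ, true_and]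
      refine ⟨?_, ?_⟩
      · rw [mul_assoc, mul_assoc]
        refine mul_mem hw ?_
        have := hnorm z hzH _ (inv_mem hw)
        rwa [hzi, mul_assoc] at this
      · calc z * (w * z * w⁻¹ * z) * z = z * w * z * w⁻¹ * (z * z) := by group
          _ = z⁻¹ * w * z⁻¹ * w⁻¹ := by rw [hz2, hzi, mul_one]
          _ = _ := by group
    have h1 := (card_le_mul_of_conj M z S hS).1
    have hSI : S.card ≤ I.card := Finset.card_le_card_of_injOn (fun s => s * z)
      (fun s hs => (Finset.mem_filter.1 hs).2) fun s _ t _ e => mul_right_cancel e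
    have hfc : Nat.card (M ⊓ cen z : Subgroup G) ≤ 5 := by
      rw [← ho, ← Nat.card_zpowers]
      exact Nat.le_of_dvd Nat.card_pos (Subgroup.card_dvd_of_le hfix)
    let g : I × Subgroup.zpowers y → M := fun q =>
      ⟨(q.1 : G) * q.2, mul_mem (Finset.mem_filter.1 q.1.2).2.1 ((Subgroup.zpowers_le.2 hyM) q.2.2)⟩
    have hzd : ∀ d ∈ Subgroup.zpowers y, z * d * z = d := fun d hd => by
      rw [← hcent d hd z hzH, mul_assoc, hz2, mul_one]
    have hg : Function.Injective g := by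
      rintro ⟨⟨a, ha⟩, ⟨d, hd⟩⟩ ⟨⟨b, hb⟩, ⟨e, he⟩⟩ h
      have h' : a * d = b * e := congrArg Subtype.val h
      have hai := (Finset.mem_filter.1 ha).2
      have hbi := (Finset.mem_filter.1 hb).2
      have h2 : a⁻¹ * d = b⁻¹ * e := by
        calc a⁻¹ * d = (z * a * z) * (z * d * z) := by rw [hai.2, hzd d hd]
          _ = z * (a * d) * z := by simp only [mul_assoc]; rw [← mul_assoc z z, hz2, one_mul]
          _ = z * (b * e) * z := by rw [h']
          _ = (z * b * z) * (z * e * z) := by simp only [mul_assoc]; rw [← mul_assoc z z, hz2, one_mul]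
          _ = _ := by rw [hbi.2, hzd e he]
      set u := e * d⁻¹ with hu
      have huy : u ∈ Subgroup.zpowers y := mul_mem he (inv_mem hd)
      have ha' : a = b * u := by rw [hu, ← mul_assoc, ← h', mul_inv_cancel_right]
      have hai' : a⁻¹ = b⁻¹ * u := by rw [hu, ← mul_assoc, ← h2, mul_inv_cancel_right]
      have huu : u * u = 1 := by
        have h3 : a * a⁻¹ = b * u * (b⁻¹ * u) := by rw [← ha', ← hai']
        rw [mul_inv_cancel] at h3
        rw [mul_assoc, ← mul_assoc u, hcent u huy b⁻¹ (inv_mem (hMH hbi.1)), ← mul_assoc,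
          mul_inv_cancel_left] at h3
        exact h3.symm
      have hu1 : u = 1 := by
        have h5 : orderOf u ∣ 5 := ho ▸ orderOf_dvd_of_mem_zpowers huy
        have h2' : orderOf u ∣ 2 := orderOf_dvd_of_pow_eq_one (by rw [pow_two, huu])
        exact orderOf_eq_one_iff.1 (Nat.eq_one_of_dvd_coprimes (by norm_num) h5 h2')
      rw [hu1, mul_one] at ha'
      subst ha'
      have : d = e := mul_left_cancel h'
      subst this
      rfl
    have hb := hg.bijective_of_nat_card_le (by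
      rw [Nat.card_prod, Nat.card_eq_finsetCard, Nat.card_zpowers, ho]
      calc Nat.card M ≤ S.card * Nat.card (M ⊓ cen z : Subgroup G) := h1
        _ ≤ I.card * 5 := Nat.mul_le_mul hSI hfc)
    intro m hm
    obtain ⟨⟨⟨a, ha⟩, ⟨d, hd⟩⟩, hq⟩ := hb.2 ⟨m, hm⟩
    have hm' : a * d = m := congrArg Subtype.val hq
    have hai := (Finset.mem_filter.1 ha).2
    have e : z * m * z * m = d * d := by
      calc z * m * z * m = (z * a * z) * (z * d * z) * (a * d) := by
            rw [← hm']; simp only [mul_assoc]; rw [← mul_assoc z z, hz2, one_mul]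
        _ = a⁻¹ * (d * a) * d := by rw [hai.2, hzd d hd]; group
        _ = d * d := by rw [hcent d hd a (hMH hai.1), inv_mul_cancel_left]
    rw [e]
    exact mul_mem hd hd
  have hcomm : ∀ m ∈ M, ∀ n ∈ M, m * n * m⁻¹ * n⁻¹ ∈ Subgroup.zpowers y := by
    intro m hm n hn
    have hd : ∀ k ∈ M, ∃ d ∈ Subgroup.zpowers y, z * k * z = d * k⁻¹ := fun k hk =>
      ⟨_, hall k hk, by group⟩
    obtain ⟨d₁, hd₁, e₁⟩ := hd m hm
    obtain ⟨d₂, hd₂, e₂⟩ := hd n hn
    obtain ⟨d₃, hd₃, e₃⟩ := hd (n⁻¹ * m⁻¹) (mul_mem (inv_mem hn) (inv_mem hm))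
    have hzz : z * (n⁻¹ * m⁻¹) * z = (z * n * z)⁻¹ * (z * m * z)⁻¹ := by
      rw [mul_inv_rev, mul_inv_rev, mul_inv_rev, mul_inv_rev, hzi]
      simp only [mul_assoc]; rw [← mul_assoc z z, hz2, one_mul]
    rw [e₁, e₂, e₃] at hzz
    have c₂ := hcent _ (inv_mem hd₂) m (hMH hm)
    have key : m * n * m⁻¹ * n⁻¹ = (d₃ * d₁ * d₂)⁻¹ := by
      have h3 : d₃ * (m * n) = n * m * (d₁⁻¹ * d₂⁻¹) := by
        calc d₃ * (m * n) = d₃ * (n⁻¹ * m⁻¹)⁻¹ := by group
          _ = (d₂ * n⁻¹)⁻¹ * (d₁ * m⁻¹)⁻¹ := hzz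
          _ = n * ((d₂⁻¹ * m) * d₁⁻¹) := by group
          _ = n * ((m * d₂⁻¹) * d₁⁻¹) := by rw [c₂]
          _ = n * m * (d₁⁻¹ * d₂⁻¹) := by
              rw [mul_assoc m, ← hcent _ (inv_mem hd₁) _ (hMH (inv_mem ((Subgroup.zpowers_le.2 hyM) hd₂)))]
              group
      calc m * n * m⁻¹ * n⁻¹ = d₃⁻¹ * (d₃ * (m * n)) * m⁻¹ * n⁻¹ := by group
        _ = d₃⁻¹ * (n * m * ((d₁⁻¹ * d₂⁻¹) * m⁻¹)) * n⁻¹ := by rw [h3]; group
        _ = d₃⁻¹ * (n * (d₁⁻¹ * d₂⁻¹)) * n⁻¹ := by
            rw [hcent _ (mul_mem (inv_mem hd₁) (inv_mem hd₂)) m⁻¹ (hMH (inv_mem hm))]; group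
        _ = d₃⁻¹ * (d₁⁻¹ * d₂⁻¹) := by
            rw [← hcent _ (mul_mem (inv_mem hd₁) (inv_mem hd₂)) n (hMH hn)]; group
        _ = (d₃ * d₁ * d₂)⁻¹ := by
            rw [mul_inv_rev, mul_inv_rev, hcent _ (inv_mem hd₃) _
              (hMH (mul_mem (inv_mem ((Subgroup.zpowers_le.2 hyM) hd₁)) (inv_mem ((Subgroup.zpowers_le.2 hyM) hd₂)))),
              hcent _ (inv_mem hd₁) _ (hMH (inv_mem ((Subgroup.zpowers_le.2 hyM) hd₂)))]
            group
    rw [key]
    exact inv_mem (mul_mem (mul_mem hd₃ hd₁) hd₂)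
  -- a Sylow subgroup containing `y`
  have hp : IsPGroup 5 (Subgroup.zpowers y) := IsPGroup.of_card (n := 1) (by rw [Nat.card_zpowers, ho, pow_one])
  obtain ⟨P, hP⟩ := hp.exists_le_sylow
  have hc25 : Nat.card (P : Subgroup G) = 25 := L.card_sylow_five P
  haveI hab : IsMulCommutative (P : Subgroup G) :=
    IsPGroup.isMulCommutative_of_card_eq_prime_sq (p := 5) (by rw [hc25]; rfl)
  have hPH : (P : Subgroup G) ≤ H := fun a ha => mem_cen.2
    (congrArg Subtype.val (hab.is_comm.comm ⟨a, ha⟩ ⟨y, hP (Subgroup.mem_zpowers _)⟩))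
  have hPM : (P : Subgroup G) ≤ M := fun a ha => hoddmem a (hPH ha) 25 ⟨12, rfl⟩ (by
    have := pow_card_eq_one' (G := (P : Subgroup G)) (x := ⟨a, ha⟩)
    rw [hc25] at this
    exact congrArg Subtype.val this)
  have hM25 : Nat.card M = 25 := by
    have hprime : ∀ q : ℕ, q.Prime → q ∣ Nat.card M → q = 5 := by
      intro q hq hqd
      by_contra hne
      haveI := Fact.mk hq
      obtain ⟨⟨m, hm⟩, hmo⟩ := exists_prime_orderOf_dvd_card' q hqd
      rw [Subgroup.orderOf_mk] at hmo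
      have hmC : m ∈ cenS (P : Subgroup G) := by
        intro a ha
        set d := m * a * m⁻¹ * a⁻¹ with hdd
        have hd : d ∈ Subgroup.zpowers y := hcomm m hm a (hPM ha)
        have h1 : ∀ k : ℕ, m ^ k * a * (m ^ k)⁻¹ = d ^ k * a := by
          intro k
          induction k with
          | zero => simp
          | succ k ih =>
            have hdm : m * d * m⁻¹ = d := by
              rw [← hcent d hd m (hMH hm), mul_inv_cancel_right]
            calc m ^ (k + 1) * a * (m ^ (k + 1))⁻¹ = m * (m ^ k * a * (m ^ k)⁻¹) * m⁻¹ := by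
                  rw [pow_succ']; group
              _ = (m * d * m⁻¹) ^ k * (m * a * m⁻¹) := by rw [ih, conj_pow]; group
              _ = d ^ k * (d * a) := by rw [hdm, hdd, inv_mul_cancel_right]
              _ = d ^ (k + 1) * a := by rw [pow_succ]; group
        have h3 := h1 q
        rw [show m ^ q = 1 by rw [← hmo, pow_orderOf_eq_one], one_mul, inv_one, mul_one] at h3
        have hdq : d ^ q = 1 := mul_eq_right.1 h3.symm
        have hd5 : orderOf d ∣ 5 := ho ▸ orderOf_dvd_of_mem_zpowers hd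
        have hd1 : d = 1 := orderOf_eq_one_iff.1 (Nat.eq_one_of_dvd_coprimes
          ((Nat.coprime_primes Nat.prime_five hq).2 (Ne.symm hne)) hd5 (orderOf_dvd_of_pow_eq_one hdq))
        exact (mul_inv_eq_iff_eq_mul.1 (mul_inv_eq_one.1 hd1)).symm
      rw [L.cenS_five P] at hmC
      have h25 : q ∣ 5 ^ 2 := by
        have := (P : Subgroup G).orderOf_dvd_natCard hmC
        rwa [hmo, hc25] at this
      exact hne ((Nat.prime_dvd_prime_iff_eq hq Nat.prime_five).1 (hq.dvd_of_dvd_pow h25))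
    have hpow := Nat.eq_prime_pow_of_unique_prime_dvd (n := Nat.card M) Nat.card_pos.ne'
      (fun {q} hq hd => hprime q hq hd)
    have hd := Subgroup.card_subgroup_dvd_card M
    rw [L.card_G', hpow] at hd
    have h2 := Subgroup.card_dvd_of_le hPM
    rw [hc25, hpow] at h2
    have hk2 : (Nat.card M).primeFactorsList.length ≤ 2 := by
      by_contra hk
      have : 5 ^ 3 ∣ 604800 := (pow_dvd_pow 5 (by omega)).trans hd
      norm_num at this
    have hk2' : 2 ≤ (Nat.card M).primeFactorsList.length :=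
      (Nat.pow_dvd_pow_iff_le_right (by norm_num : 1 < 5)).1 h2
    rw [hpow, le_antisymm hk2 hk2']
    rfl
  rw [← hM'c, ← hMcard, hM25]

end Loc

end Cfsg.Agent.J2Loc
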