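import Cfsg.Agent.J2Loc.A5
import Cfsg.Agent.J2Type.Order
import Cfsg.Agent.S3277

/-!
The subgroup of order 60 as a group of permutations, its centraliser in the centraliser of the second class and
an element of order 3 permuting the three involutions of that four group.
-/

set_option autoImplicit false
set_option linter.style.haveILetI false
set_option linter.unusedSectionVars false

namespace Cfsg.Agent.J2Loc

open Cfsg Cfsg.Agent.LargeExtra Cfsg.Agent.J2Type

variable {G : Type*} [Group G] [Finite G]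

/-- A configuration together with an identification of the subgroup of order 60. -/
structure Loc {z : G} {Q : Subgroup G} {p : Fin 5 → G} {x : G} (c : Cfg z Q p x) (K : Subgroup G)
    (ι : K →* A5.P5) : Prop where
  comp : Comp c K
  inj : Function.Injective ι
  sign : ∀ k, Equiv.Perm.sign (ι k) = 1
  surj : ∀ a : A5.P5, Equiv.Perm.sign a = 1 → ∃ k, ι k = a
  z_spec : ∃ h : z ∈ K, ι ⟨z, h⟩ = A5.t₀

theorem exists_loc {z : G} {Q : Subgroup G} {p : Fin 5 → G} {x : G} (c : Cfg z Q p x) :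
    ∃ (K : Subgroup G) (ι : K →* A5.P5), Loc c K ι := by
  classical
  obtain ⟨K, hK⟩ := c.exists_comp
  have hzK : z ∈ K := (hK.inf_E z c.z_mem_E).2 c.d.hyp.ci.mem
  obtain ⟨h15, h4⟩ := c.card_inv hK
  let z' : K := ⟨z, hzK⟩
  have hz2 : z' * z' = 1 := Subtype.ext c.d.hyp.ci.sq
  have hz1 : z' ≠ 1 := fun e => c.d.hyp.ci.ne_one (congrArg Subtype.val e)
  have hz : orderOf z' = 2 := orderOf_eq_prime (by rw [pow_two, hz2]) hz1
  have hC4 : Nat.card (Subgroup.centralizer ({z'} : Set K)) = 4 := by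
    rw [← (h4 z hzK c.d.hyp.ci.sq c.d.hyp.ci.ne_one).1]
    exact Nat.card_congr
      { toFun := fun w => ⟨((w : K) : G), (w : K).2, Subgroup.mem_centralizer_singleton_iff.2
          (congrArg Subtype.val (Subgroup.mem_centralizer_singleton_iff.1 w.2))⟩
        invFun := fun w => ⟨⟨w, w.2.1⟩, Subgroup.mem_centralizer_singleton_iff.2
          (Subtype.ext (Subgroup.mem_centralizer_singleton_iff.1 w.2.2))⟩
        left_inv := fun _ => rfl
        right_inv := fun _ => rfl }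
  have hCe : ∀ w ∈ Subgroup.centralizer ({z'} : Set K), w ^ 2 = 1 := by
    intro w hw
    have hwz : (w : G) * z = z * w := congrArg Subtype.val (Subgroup.mem_centralizer_singleton_iff.1 hw)
    have hwE : (w : G) ∈ c.E := c.mem_E.2 ⟨hwz, Subgroup.mem_centralizer_singleton_iff.1 (hK.le w.2)⟩
    rw [pow_two]
    exact Subtype.ext (c.E_sq hwE)
  have hconj : ∀ u : K, u * u = 1 → u ≠ 1 → ∃ k : K, k * z' * k⁻¹ = u := by
    intro u hu hu1
    obtain ⟨k, hk, hku⟩ := hK.conj_z u u.2 (congrArg Subtype.val hu) fun e => hu1 (Subtype.ext e)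
    exact ⟨⟨k, hk⟩, Subtype.ext hku⟩
  obtain ⟨y, hy, hyz, hy1⟩ : ∃ y : K, y ∈ Subgroup.centralizer ({z'} : Set K) ∧ y ≠ z' ∧ y ≠ 1 := by
    by_contra hcon
    push Not at hcon
    have hsub : (Subgroup.centralizer ({z'} : Set K) : Set K) ⊆ {1, z'} := fun w hw => by
      by_cases h1 : w = z'
      · exact Or.inr h1
      · exact Or.inl (hcon w hw h1)
    have := Set.ncard_le_ncard hsub
    rw [← Nat.card_coe_set_eq, SetLike.coe_sort_coe, hC4, Set.ncard_pair (Ne.symm hz1)] at this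
    omega
  have hy2 : y * y = 1 := by rw [← pow_two]; exact hCe y hy
  have hyz' : y * z' = z' * y := Subgroup.mem_centralizer_singleton_iff.1 hy
  have hnc : ¬ Cfsg.HasNormalPComplement 2 K := by
    rintro ⟨P, N, hN, hcompl⟩
    haveI : Fact (Nat.Prime 2) := ⟨Nat.prime_two⟩
    have hcard : Nat.card (P : Subgroup K) = 4 := by
      obtain ⟨n, hn⟩ := IsPGroup.iff_card.1 P.isPGroup'
      have h1 : 2 ^ n ∣ 60 := by rw [← hn, ← hK.card]; exact Subgroup.card_subgroup_dvd_card _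
      have h2 : 4 ∣ Nat.card (P : Subgroup K) := by
        obtain ⟨P', hP'⟩ := (IsPGroup.of_card (n := 2) (by rw [hC4]; norm_num) :
          IsPGroup 2 (Subgroup.centralizer ({z'} : Set K))).exists_le_sylow
        rw [Sylow.card_eq_multiplicity, ← Sylow.card_eq_multiplicity P', ← hC4]
        exact Subgroup.card_dvd_of_le hP'
      rw [hn] at h2 ⊢
      rcases lt_or_ge n 3 with h | h
      · interval_cases n <;> first | rfl | (norm_num at h2)
      · have : 2 ^ 3 ∣ 60 := (pow_dvd_pow 2 h).trans h1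
        norm_num at this
    have hidx : N.index = 4 := by
      have h1 := hcompl.card_mul_card
      rw [hcard] at h1
      have h2 := Subgroup.card_mul_index N
      have hpos : 0 < Nat.card N := Nat.card_pos
      rw [← h1] at h2
      exact Nat.eq_of_mul_eq_mul_left hpos h2
    have hNodd : ∀ w : K, w ∈ N → w * w = 1 → w = 1 := by
      intro w hw hw2
      by_contra hw1
      have h1 : 2 ∣ Nat.card N := by
        have := N.orderOf_dvd_natCard hw
        rwa [orderOf_eq_prime (by rw [pow_two, hw2]) hw1] at this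
      have h2 := Subgroup.card_mul_index N
      rw [hidx, hK.card] at h2
      omega
    -- two commuting conjugate involutions map to the same element of the abelian quotient
    obtain ⟨k, hk⟩ := hconj y hy2 hy1
    have hq : ∀ a b : K ⧸ N, a * b = b * a := by
      haveI : IsMulCommutative (K ⧸ N) := by
        haveI : Fact (Nat.Prime 2) := ⟨Nat.prime_two⟩
        exact IsPGroup.isMulCommutative_of_card_eq_prime_sq (p := 2) (by
          rw [← Subgroup.index_eq_card, hidx]; norm_num)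
      exact fun a b => IsMulCommutative.is_comm.comm a b
    have hmk : (QuotientGroup.mk y : K ⧸ N) = QuotientGroup.mk z' := by
      rw [← hk]
      show (QuotientGroup.mk k : K ⧸ N) * QuotientGroup.mk z' * (QuotientGroup.mk k)⁻¹ = _
      rw [hq (QuotientGroup.mk k), mul_inv_cancel_right]
    rw [QuotientGroup.eq, inv_eq_of_mul_eq_one_right hy2] at hmk
    have h3 := hNodd _ hmk (by
      calc y * z' * (y * z') = y * (z' * y) * z' := by group
        _ = (y * y) * (z' * z') := by rw [← hyz']; group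
        _ = 1 := by rw [hy2, hz2, one_mul])
    exact hyz (by rw [eq_inv_of_mul_eq_one_left h3, inv_eq_of_mul_eq_one_right hz2])
  have hne : ∀ E : Subgroup K, E.Normal → Cfsg.IsElementaryAbelian 2 E →
      Nat.card E ≠ 2 ∧ Nat.card E ≠ 4 := by
    intro E hE hel
    by_contra hcon
    have h2 : 2 ∣ Nat.card E ∧ Nat.card E ≤ 4 := by
      rw [not_and_or, not_not, not_not] at hcon
      rcases hcon with h | h <;> rw [h] <;> norm_num
    haveI : Fact (Nat.Prime 2) := ⟨Nat.prime_two⟩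
    obtain ⟨⟨e, he⟩, heo⟩ := exists_prime_orderOf_dvd_card' (G := E) 2 h2.1
    rw [Subgroup.orderOf_mk] at heo
    have he2 : e * e = 1 := by rw [← pow_two, ← heo, pow_orderOf_eq_one]
    have he1 : e ≠ 1 := fun h => by rw [h, orderOf_one] at heo; norm_num at heo
    obtain ⟨k, hk⟩ := hconj e he2 he1
    have hzE : z' ∈ E := by
      have := hE.conj_mem e he k⁻¹
      rwa [show k⁻¹ * e * k⁻¹⁻¹ = z' by rw [← hk]; group] at this
    let f : {u : G // u ∈ K ∧ u * u = 1 ∧ u ≠ 1} → E := fun u => ⟨⟨u, u.2.1⟩, by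
      obtain ⟨a, ha⟩ := hconj ⟨u, u.2.1⟩ (Subtype.ext u.2.2.1) fun h => u.2.2.2 (congrArg Subtype.val h)
      exact ha ▸ hE.conj_mem z' hzE a⟩
    have hf : Function.Injective f := fun a b h =>
      Subtype.ext (congrArg (fun w : E => ((w : K) : G)) h)
    have := Nat.card_le_card_of_injective f hf
    omega
  obtain ⟨ψ⟩ := S3277.result z' hz hC4 hCe hnc hne
  let ι₀ : K →* A5.P5 := (alternatingGroup (Fin 5)).subtype.comp ψ.toMonoidHom
  have hinj₀ : Function.Injective ι₀ := (Subgroup.subtype_injective _).comp ψ.injective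
  have hsign₀ : ∀ k, Equiv.Perm.sign (ι₀ k) = 1 := fun k => Equiv.Perm.mem_alternatingGroup.1 (ψ k).2
  have hsurj₀ : ∀ a : A5.P5, Equiv.Perm.sign a = 1 → ∃ k, ι₀ k = a := fun a ha =>
    ⟨ψ.symm ⟨a, Equiv.Perm.mem_alternatingGroup.2 ha⟩,
      congrArg Subtype.val (ψ.apply_symm_apply ⟨a, Equiv.Perm.mem_alternatingGroup.2 ha⟩)⟩
  obtain ⟨b, hb, hbz⟩ := A5.conj_two (ι₀ z') (hsign₀ _) (by rw [← map_mul, hz2, map_one])
    (fun e => hz1 (hinj₀ (by rw [e, map_one])))
  let ι : K →* A5.P5 := (MulAut.conj b⁻¹).toMonoidHom.comp ι₀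
  refine ⟨K, ι, hK, fun a b h => hinj₀ ((MulAut.conj _).injective h), fun k => ?_, fun a ha => ?_, hzK, ?_⟩
  · show Equiv.Perm.sign (b⁻¹ * ι₀ k * b⁻¹⁻¹) = 1
    rw [map_mul, map_mul, map_inv, inv_inv, hb, hsign₀]
    rfl
  · obtain ⟨k, hk⟩ := hsurj₀ (b * a * b⁻¹) (by rw [map_mul, map_mul, map_inv, hb, ha]; rfl)
    refine ⟨k, ?_⟩
    show b⁻¹ * ι₀ k * b⁻¹⁻¹ = a
    rw [hk]; group
  · show b⁻¹ * ι₀ z' * b⁻¹⁻¹ = A5.t₀
    rw [inv_inv, mul_assoc, ← hbz]; group

namespace Loc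

variable {z : G} {Q : Subgroup G} {p : Fin 5 → G} {x : G} {c : Cfg z Q p x} {K : Subgroup G}
  {ι : K →* A5.P5} (L : Loc c K ι)
include L

omit [Finite G] in
theorem el_exists {a : A5.P5} (ha : Equiv.Perm.sign a = 1) : ∃ k : K, ι k = a := L.surj a ha

/-- The four group centralising `K`. -/
noncomputable def V (_ : Loc c K ι) : Subgroup G :=
  Subgroup.centralizer ({x} : Set G) ⊓ Subgroup.centralizer (K : Set G)

theorem mem_V {v : G} : v ∈ L.V ↔ v * x = x * v ∧ ∀ k ∈ K, v * k = k * v := by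
  rw [V, Subgroup.mem_inf, Subgroup.mem_centralizer_singleton_iff, Subgroup.mem_centralizer_iff]
  exact and_congr_right fun _ => forall₂_congr fun _ _ => eq_comm

theorem z_mem : z ∈ K := L.z_spec.1

theorem ι_z : ι ⟨z, L.z_mem⟩ = A5.t₀ := L.z_spec.2

omit [Finite G] in
theorem commute_ι {a b : K} : (a : G) * b = b * a ↔ ι a * ι b = ι b * ι a := by
  rw [← map_mul, ← map_mul, L.inj.eq_iff, Subtype.ext_iff, Subgroup.coe_mul, Subgroup.coe_mul]

theorem K_mem_E {k : K} (h : ι k * A5.t₀ = A5.t₀ * ι k) : (k : G) ∈ c.E := by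
  refine c.mem_E.2 ⟨?_, Subgroup.mem_centralizer_singleton_iff.1 (L.comp.le k.2)⟩
  rw [← L.ι_z] at h
  exact L.commute_ι.2 h

omit [Finite G] in
/-- The conjugation homomorphism of an element of `C(x)` on `K`, read in permutations. -/
theorem exists_conjHom {w : G} (hw : w ∈ Subgroup.normalizer (K : Set G)) :
    ∃ β : K →* A5.P5, Function.Injective β ∧ (∀ k, Equiv.Perm.sign (β k) = 1) ∧
      ∀ (k : K) (k' : K), (k' : G) = w * k * w⁻¹ → β k = ι k' := by
  let φ : K →* K :=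
    { toFun := fun k => ⟨w * k * w⁻¹, (Subgroup.mem_normalizer_iff.1 hw k).1 k.2⟩
      map_one' := Subtype.ext (by simp)
      map_mul' := fun a b => Subtype.ext (by simp [mul_assoc]) }
  refine ⟨ι.comp φ, fun a b h => ?_, fun k => L.sign _, fun k k' hk => ?_⟩
  · have := congrArg Subtype.val (L.inj h)
    exact Subtype.ext (mul_left_cancel (mul_right_cancel this))
  · show ι (φ k) = ι k'
    exact congrArg ι (Subtype.ext hk.symm)

theorem le_normalizer : Subgroup.centralizer ({x} : Set G) ≤ Subgroup.normalizer (K : Set G) := by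
  intro h hh
  refine Subgroup.mem_normalizer_iff.2 fun k => ⟨L.comp.normal h hh k, fun hk => ?_⟩
  have := L.comp.normal h⁻¹ (inv_mem hh) _ hk
  simpa [mul_assoc] using this

theorem E_split {e : G} (he : e ∈ c.E) : ∃ τ : K, (τ : G) * (τ : G) = 1 ∧ (τ : G) * e ∈ L.V := by
  classical
  obtain ⟨u, hu⟩ := L.el_exists A5.sign_consts.1
  obtain ⟨g, hg⟩ := L.el_exists A5.sign_consts.2.2.2.1
  obtain ⟨t, ht⟩ := L.el_exists A5.sign_consts.2.2.1
  obtain ⟨c3, c3', ct, -, ct1, -, -, -, -, -, -, -, ctt, -⟩ := A5.consts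
  have htE : (t : G) ∈ c.E := L.K_mem_E (by rw [ht]; exact ctt.symm)
  have hzE := c.z_mem_E
  have heN := L.le_normalizer (c.E_le he)
  obtain ⟨β, hβi, hβs, hβ⟩ := L.exists_conjHom heN
  let z' : K := ⟨z, L.z_mem⟩
  have hβz : β z' = A5.t₀ := by
    rw [← L.ι_z]
    exact hβ z' z' (show (z : G) = e * z * e⁻¹ by rw [c.E_comm he hzE, mul_inv_cancel_right])
  have hβt : β t = A5.t₁ := by
    rw [← ht]
    exact hβ t t (show (t : G) = e * t * e⁻¹ by rw [c.E_comm he htE, mul_inv_cancel_right])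
  let u' : K := ⟨e * u * e⁻¹, (Subgroup.mem_normalizer_iff.1 heN u).1 u.2⟩
  have hu' : β u = ι u' := hβ u u' rfl
  have huu : u * u * u = 1 := L.inj (by rw [map_mul, map_mul, hu, c3, map_one])
  have hu1 : u ≠ 1 := fun e => c3' (by rw [← hu, e, map_one])
  -- the conjugates of the two involutions
  let a₀ : K := u * z' * u⁻¹
  let a₁ : K := u * t * u⁻¹
  have hfix : ∀ k : K, (ι k * A5.t₀ = A5.t₀ * ι k) → β k = ι k := fun k hk =>
    hβ k k (show (k : G) = e * k * e⁻¹ by rw [c.E_comm he (L.K_mem_E hk), mul_inv_cancel_right])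
  have h0 : (A5.s₀ * A5.t₀ * A5.s₀⁻¹) * A5.t₀ = A5.t₀ * (A5.s₀ * A5.t₀ * A5.s₀⁻¹) := by decide +kernel
  have h1 : (A5.s₀ * A5.t₁ * A5.s₀⁻¹) * A5.t₀ = A5.t₀ * (A5.s₀ * A5.t₁ * A5.s₀⁻¹) := by decide +kernel
  have ha0 : β u * A5.t₀ * (β u)⁻¹ = A5.s₀ * A5.t₀ * A5.s₀⁻¹ := by
    have := hfix a₀ (by simp only [a₀, map_mul, map_inv, hu, z', L.ι_z]; exact h0)
    simpa only [a₀, map_mul, map_inv, hβz, hu, z', L.ι_z] using this
  have ha1 : β u * A5.t₁ * (β u)⁻¹ = A5.s₀ * A5.t₁ * A5.s₀⁻¹ := by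
    have := hfix a₁ (by simp only [a₁, map_mul, map_inv, hu, ht]; exact h1)
    simpa only [a₁, map_mul, map_inv, hβt, hu, ht] using this
  have hcases := A5.shift (β u) (hβs u) (by rw [← map_mul, ← map_mul, huu, map_one])
    (fun e => hu1 (hβi (by rw [e, map_one]))) ha0 ha1
  obtain ⟨τ, hτ2, hτ0, hτ⟩ : ∃ τ : K, ι τ * ι τ = 1 ∧ ι τ * A5.t₀ = A5.t₀ * ι τ ∧
      ι τ * β u * ι τ = A5.s₀ := by
    rcases hcases with h | h | h | h <;> rw [h]
    · exact ⟨1, by simp, by simp, by simp⟩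
    · exact ⟨z', by rw [L.ι_z, ct], by rw [L.ι_z], by rw [L.ι_z]; decide +kernel⟩
    · exact ⟨t, by rw [ht, ct1], by rw [ht]; exact ctt.symm, by rw [ht]; decide +kernel⟩
    · exact ⟨z' * t, by rw [map_mul, L.ι_z, ht]; decide +kernel, by rw [map_mul, L.ι_z, ht]; decide +kernel,
        by rw [map_mul, L.ι_z, ht]; decide +kernel⟩
  have hτE : (τ : G) ∈ c.E := L.K_mem_E hτ0
  refine ⟨τ, c.E_sq hτE, ?_⟩
  set w : G := (τ : G) * e with hw
  have hwE : w ∈ c.E := mul_mem hτE he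
  have hwN := L.le_normalizer (c.E_le hwE)
  obtain ⟨γ, hγi, hγs, hγ⟩ := L.exists_conjHom hwN
  have hτinv : (ι τ)⁻¹ = ι τ := inv_eq_of_mul_eq_one_right hτ2
  have hγu : γ u = A5.s₀ := by
    rw [← hτ, hu', hγ u (τ * u' * τ⁻¹) (show (τ : G) * (e * u * e⁻¹) * (τ : G)⁻¹ = w * u * w⁻¹ by rw [hw]; group),
      map_mul, map_mul, map_inv, hτinv]
  obtain ⟨cc, hcc, hcconj⟩ := A5.exists_conj_of_fix ι γ L.inj hγi L.sign hγs L.surj hu hg hγu
  have hcc1 : cc = 1 := by
    refine A5.comm_t₀ cc hcc ?_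
    have h := hcconj z'
    rw [hγ z' z' (show (z : G) = w * z * w⁻¹ by rw [c.E_comm hwE hzE, mul_inv_cancel_right]), L.ι_z] at h
    exact (eq_mul_inv_iff_mul_eq.1 h).symm
  refine L.mem_V.2 ⟨(c.mem_E.1 hwE).2, fun k hk => ?_⟩
  let k' : K := ⟨w * k * w⁻¹, (Subgroup.mem_normalizer_iff.1 hwN k).1 hk⟩
  have := hcconj ⟨k, hk⟩
  rw [hγ ⟨k, hk⟩ k' rfl, hcc1, one_mul, inv_one, mul_one] at this
  have h2 : w * k * w⁻¹ = k := congrArg Subtype.val (L.inj this)
  exact mul_inv_eq_iff_eq_mul.1 h2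

theorem inf_K {v : G} (hv : v ∈ L.V) (hk : v ∈ K) : v = 1 := by
  obtain ⟨u, hu⟩ := L.el_exists A5.sign_consts.1
  have hc := (L.mem_V.1 hv).2
  have h1 : ι ⟨v, hk⟩ = 1 := by
    refine A5.center_trivial _ (L.sign _) ?_ ?_
    · rw [← L.ι_z]; exact L.commute_ι.1 (hc z L.z_mem)
    · rw [← hu]; exact L.commute_ι.1 (hc u u.2)
  exact congrArg Subtype.val (L.inj (h1.trans (map_one ι).symm) : (⟨v, hk⟩ : K) = 1)

theorem decomp {h : G} (hh : h * x = x * h) : ∃ v ∈ L.V, ∃ k ∈ K, h = v * k := by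
  obtain ⟨e, he, hk⟩ := L.comp.cover h (Subgroup.mem_centralizer_singleton_iff.2 hh)
  obtain ⟨τ, hτ, hv⟩ := L.E_split he
  refine ⟨(τ : G) * e, hv, (τ : G) * (e * h), mul_mem τ.2 hk, ?_⟩
  have h1 := (L.mem_V.1 hv).2 (τ : G) τ.2
  calc h = (e * e) * h := by rw [c.E_sq he, one_mul]
    _ = ((τ : G) * (τ : G)) * e * (e * h) := by rw [hτ, one_mul]; group
    _ = (τ : G) * ((τ : G) * e) * (e * h) := by group
    _ = (τ : G) * e * (τ : G) * (e * h) := by rw [← h1]
    _ = _ := by group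

theorem V_sq {v : G} (hv : v ∈ L.V) : v * v = 1 := by
  have hvx := (L.mem_V.1 hv).1
  obtain ⟨e, he, hk⟩ := L.comp.cover v (Subgroup.mem_centralizer_singleton_iff.2 hvx)
  have h1 := (L.mem_V.1 hv).2 (e * v) hk
  refine L.inf_K (mul_mem hv hv) ?_
  have e1 : v * v = (e * v) * (e * v) := by
    calc v * v = (e * e) * v * v := by rw [c.E_sq he, one_mul]
      _ = e * (e * v) * v := by group
      _ = e * ((e * v) * v) := by group
      _ = e * (v * (e * v)) := by rw [h1]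
      _ = _ := by group
  exact e1 ▸ mul_mem hk hk

theorem V_comm {v w : G} (hv : v ∈ L.V) (hw : w ∈ L.V) : v * w = w * v := by
  have h := L.V_sq (mul_mem hv hw)
  calc v * w = (v * w)⁻¹ := (inv_eq_of_mul_eq_one_right h).symm
    _ = w⁻¹ * v⁻¹ := mul_inv_rev _ _
    _ = w * v := by rw [inv_eq_of_mul_eq_one_right (L.V_sq hv), inv_eq_of_mul_eq_one_right (L.V_sq hw)]

theorem x_mem_V : x ∈ L.V :=
  L.mem_V.2 ⟨rfl, fun k hk => (Subgroup.mem_centralizer_singleton_iff.1 (L.comp.le hk)).symm⟩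

theorem card_V : Nat.card L.V = 4 := by
  have hCx := c.card_H L.comp
  let f : L.V × K → Subgroup.centralizer ({x} : Set G) := fun q =>
    ⟨(q.1 : G) * q.2, mul_mem (Subgroup.mem_centralizer_singleton_iff.2 (L.mem_V.1 q.1.2).1) (L.comp.le q.2.2)⟩
  have hf : Function.Bijective f := by
    constructor
    · rintro ⟨⟨v, hv⟩, ⟨k, hk⟩⟩ ⟨⟨w, hw⟩, ⟨l, hl⟩⟩ h
      have h' : v * k = w * l := congrArg Subtype.val h
      have h1 : w⁻¹ * v = l * k⁻¹ := by
        calc w⁻¹ * v = w⁻¹ * (v * k) * k⁻¹ := by group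
          _ = l * k⁻¹ := by rw [h']; group
      have h2 := L.inf_K (mul_mem (inv_mem hw) hv) (h1 ▸ mul_mem hl (inv_mem hk))
      have h3 : w = v := inv_mul_eq_one.1 h2
      subst h3
      have h4 : k = l := mul_left_cancel h'
      subst h4
      rfl
    · rintro ⟨h, hh⟩
      obtain ⟨v, hv, k, hk, rfl⟩ := L.decomp (Subgroup.mem_centralizer_singleton_iff.1 hh)
      exact ⟨(⟨v, hv⟩, ⟨k, hk⟩), rfl⟩
  rw [← Nat.card_congr (Equiv.ofBijective f hf), Nat.card_prod, L.comp.card] at hCx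
  omega

theorem cx_comm_V {v h : G} (hv : v ∈ L.V) (hh : h * x = x * h) : h * v = v * h := by
  obtain ⟨w, hw, k, hk, rfl⟩ := L.decomp hh
  rw [mul_assoc, ← (L.mem_V.1 hv).2 k hk, ← mul_assoc, L.V_comm hw hv, mul_assoc]

theorem V_isConj {v : G} (hv : v ∈ L.V) (hv1 : v ≠ 1) : IsConj x v := by
  refine (c.isConj_x_iff (orderOf_two (L.V_sq hv) hv1)).2 fun hz => ?_
  have h16 := c.card_at hz (L.mem_V.1 hv).1.symm
  rw [inf_eq_right.2 fun h hh => Subgroup.mem_centralizer_singleton_iff.2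
    (L.cx_comm_V hv (Subgroup.mem_centralizer_singleton_iff.1 hh)), c.card_H L.comp] at h16
  omega

theorem centralizer_V {v : G} (hv : v ∈ L.V) (hv1 : v ≠ 1) :
    Subgroup.centralizer ({v} : Set G) = Subgroup.centralizer ({x} : Set G) := by
  refine (Subgroup.eq_of_le_of_card_ge (fun h hh => Subgroup.mem_centralizer_singleton_iff.2
    (L.cx_comm_V hv (Subgroup.mem_centralizer_singleton_iff.1 hh))) (le_of_eq ?_)).symm
  obtain ⟨g, hg⟩ := isConj_iff.1 (L.V_isConj hv hv1)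
  refine Nat.card_congr
    { toFun := fun w => ⟨g⁻¹ * w * g, ?_⟩
      invFun := fun w => ⟨g * w * g⁻¹, ?_⟩
      left_inv := fun w => Subtype.ext (by group)
      right_inv := fun w => Subtype.ext (by group) }
  · rw [Subgroup.mem_centralizer_singleton_iff]
    have h := Subgroup.mem_centralizer_singleton_iff.1 w.2
    refine commute_conj_iff (g := g).1 ?_
    rw [show g * (g⁻¹ * (w : G) * g) * g⁻¹ = w by group, hg]
    exact h
  · rw [Subgroup.mem_centralizer_singleton_iff, ← hg]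
    exact commute_conj_iff.2 (Subgroup.mem_centralizer_singleton_iff.1 w.2)

end Loc

end Cfsg.Agent.J2Loc
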