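import Cfsg.Agent.J2Loc.ThreeN

/-!
The Sylow 7-subgroup.
-/

set_option autoImplicit false
set_option linter.style.haveILetI false
set_option linter.unusedSectionVars false

namespace Cfsg.Agent.J2Loc

open Cfsg Cfsg.Agent.LargeExtra Cfsg.Agent.J2Type

variable {G : Type*} [Group G] [Finite G]

namespace Loc

variable {z : G} {Q : Subgroup G} {p : Fin 5 → G} {x : G} {c : Cfg z Q p x} {K : Subgroup G}
  {ι : K →* A5.P5} (L : Loc c K ι)
include L

theorem card_sylow_seven (P : Sylow 7 G) : Nat.card P = 7 := by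
  haveI := Fact.mk (show Nat.Prime 7 by norm_num)
  rw [card_sylow_of P (k := 1) (m := 86400) (by rw [L.card_G']; norm_num) (by norm_num)]
  norm_num

theorem cenS_seven (P : Sylow 7 G) : cenS (P : Subgroup G) = P := by
  haveI := Fact.mk (show Nat.Prime 7 by norm_num)
  have hc : Nat.card (P : Subgroup G) = 7 := L.card_sylow_seven P
  haveI hcy : IsCyclic (P : Subgroup G) := isCyclic_of_prime_card hc
  have hself : (P : Subgroup G) ≤ cenS (P : Subgroup G) := fun a ha b hb =>
    congrArg Subtype.val (hcy.isMulCommutative.is_comm.comm ⟨b, hb⟩ ⟨a, ha⟩)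
  refine (Subgroup.eq_of_le_of_card_ge hself ?_).symm
  set C := cenS (P : Subgroup G)
  obtain ⟨m, hm⟩ := Subgroup.card_dvd_of_le hself
  rw [hc] at hm
  have hm1 : m = 1 := by
    by_contra hne
    obtain ⟨q, hq, hqm⟩ := Nat.exists_prime_and_dvd hne
    haveI := Fact.mk hq
    have hmd : m ∣ 86400 := by
      have h := Subgroup.card_subgroup_dvd_card C
      rw [L.card_G', hm, show (604800 : ℕ) = 7 * 86400 by rfl] at h
      exact Nat.dvd_of_mul_dvd_mul_left (by norm_num : 0 < 7) h
    have hq235 : q = 2 ∨ q = 3 ∨ q = 5 := by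
      have h := hqm.trans hmd
      rw [show (86400 : ℕ) = 2 ^ 7 * 3 ^ 3 * 5 ^ 2 by rfl] at h
      rcases hq.dvd_mul.1 h with h' | h'
      · rcases hq.dvd_mul.1 h' with h'' | h''
        · exact Or.inl ((Nat.prime_dvd_prime_iff_eq hq Nat.prime_two).1 (hq.dvd_of_dvd_pow h''))
        · exact Or.inr (Or.inl ((Nat.prime_dvd_prime_iff_eq hq Nat.prime_three).1 (hq.dvd_of_dvd_pow h'')))
      · exact Or.inr (Or.inr ((Nat.prime_dvd_prime_iff_eq hq Nat.prime_five).1 (hq.dvd_of_dvd_pow h')))
    obtain ⟨⟨t, htC⟩, hto⟩ := exists_prime_orderOf_dvd_card' q (show q ∣ Nat.card C by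
      rw [hm]; exact hqm.mul_left 7)
    rw [Subgroup.orderOf_mk] at hto
    have hP : (P : Subgroup G) ≤ cen t := fun a ha => mem_cen.2 (htC a ha)
    have h7 := Subgroup.card_dvd_of_le hP
    rw [hc] at h7
    rcases hq235 with rfl | rfl | rfl
    · rcases c.classes t hto with h | h
      · rw [card_cen_of_isConj h, show Nat.card (cen z) = 1920 from c.d.hyp.cardC] at h7
        norm_num at h7
      · rw [card_cen_of_isConj h, show Nat.card (cen x) = 240 from c.card_H L.comp] at h7
        norm_num at h7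
    · rcases L.card_cen_three hto with h | h <;> rw [h] at h7 <;> norm_num at h7
    · rcases L.card_cen_five_or hto with h | h <;> rw [h] at h7 <;> norm_num at h7
  rw [hc, hm, hm1]

theorem card_nor_seven (P : Sylow 7 G) : Nat.card (nor (P : Subgroup G)) = 42 := by
  classical
  haveI := Fact.mk (show Nat.Prime 7 by norm_num)
  haveI : Fintype G := Fintype.ofFinite G
  have hc : Nat.card (P : Subgroup G) = 7 := L.card_sylow_seven P
  obtain ⟨⟨a, ha⟩, hao⟩ := exists_prime_orderOf_dvd_card' 7 (hc.symm.dvd : 7 ∣ Nat.card (P : Subgroup G))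
  rw [Subgroup.orderOf_mk] at hao
  have hP : Subgroup.zpowers a = (P : Subgroup G) :=
    Subgroup.eq_of_le_of_card_ge (Subgroup.zpowers_le.2 ha) (by rw [Nat.card_zpowers, hao, hc])
  set N := nor (P : Subgroup G)
  obtain ⟨d, hd⟩ := Subgroup.card_dvd_of_le (Subgroup.le_normalizer : (P : Subgroup G) ≤ N)
  rw [hc] at hd
  let S := Finset.univ.filter fun b : G => b ∈ (P : Subgroup G) ∧ b ≠ 1
  have hS : S.card = 6 := by
    have h1 : S = (Finset.univ.filter fun b : G => b ∈ (P : Subgroup G)).erase 1 := by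
      ext b; simp [S, and_comm]
    rw [h1, Finset.card_erase_of_mem (by simp), ← Fintype.card_subtype, ← Nat.card_eq_fintype_card]
    show Nat.card (P : Subgroup G) - 1 = 6
    rw [hc]
  have hle := (card_le_mul_of_conj N a S fun w hw => Finset.mem_filter.2 ⟨Finset.mem_univ _,
    conj_mem_of_nor hw ha, fun e => by rw [conj_eq_one_iff.1 e, orderOf_one] at hao; norm_num at hao⟩).1
  have hcard : Nat.card (N ⊓ cen a : Subgroup G) ≤ 7 := by
    rw [← hc]
    refine Subgroup.card_le_of_le ?_
    intro w hw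
    rw [← L.cenS_seven P]
    intro b hb
    rw [← hP] at hb
    exact (mem_cen.1 (cen_le_of_mem_zpowers hb hw.2)).symm
  have h42 : Nat.card N ≤ 42 := by
    refine hle.trans ?_
    rw [hS]
    omega
  have hn := card_sylow_modEq_one 7 G
  have he : Nat.card (Sylow 7 G) = N.index := P.card_eq_index_normalizer
  have hidx := Subgroup.card_mul_index N
  rw [he, Nat.ModEq] at hn
  rw [L.card_G', hd] at hidx
  rw [hd] at h42 ⊢
  have hdn : d * N.index = 86400 := by
    rw [mul_assoc] at hidx; omega
  have hd6 : d ≤ 6 := by omega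
  interval_cases d <;> omega

end Loc

end Cfsg.Agent.J2Loc
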