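import Cfsg.Agent.J2Loc.FiveN

/-!
The two classes of elements of order 3 and their centralisers.
-/

set_option autoImplicit false
set_option linter.style.haveILetI false
set_option linter.unusedSectionVars false

namespace Cfsg.Agent.J2Loc

open Cfsg Cfsg.Agent.LargeExtra Cfsg.Agent.J2Type

variable {G : Type*} [Group G] [Finite G]

theorem odd_dvd {n a b : ℕ} (h : n ∣ 2 ^ a * b) (hn : ¬ 2 ∣ n) : n ∣ b :=
  (Nat.Coprime.pow_right a ((Nat.prime_two.coprime_iff_not_dvd).2 hn).symm).dvd_of_dvd_mul_left h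

/-- Sylow subgroups of prime order inside a subgroup are conjugate. -/
theorem exists_conj_mem_prime {q : ℕ} [hq : Fact q.Prime] {H : Subgroup G} (hH : ¬ q ^ 2 ∣ Nat.card H)
    {a b : G} (ha : a ∈ H) (hb : b ∈ H) (hao : orderOf a = q) (hbo : orderOf b = q) :
    ∃ h ∈ H, h * b * h⁻¹ ∈ Subgroup.zpowers a := by
  have hidx : ∀ w : H, orderOf w = q → ¬ q ∣ (Subgroup.zpowers w).index := fun w hw h => hH (by
    obtain ⟨k, hk⟩ := h
    have := Subgroup.card_mul_index (Subgroup.zpowers w)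
    rw [Nat.card_zpowers, hw, hk] at this
    exact ⟨k, by rw [← this]; ring⟩)
  have hpg : ∀ w : H, orderOf w = q → IsPGroup q (Subgroup.zpowers w) := fun w hw =>
    IsPGroup.of_card (n := 1) (by rw [Nat.card_zpowers, hw, pow_one])
  have hao' : orderOf (⟨a, ha⟩ : H) = q := by rwa [Subgroup.orderOf_mk]
  have hbo' : orderOf (⟨b, hb⟩ : H) = q := by rwa [Subgroup.orderOf_mk]
  let S : Sylow q H := (hpg _ hao').toSylow (hidx _ hao')
  let T : Sylow q H := (hpg _ hbo').toSylow (hidx _ hbo')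
  obtain ⟨g, hg⟩ := MulAction.exists_smul_eq H T S
  refine ⟨g, g.2, ?_⟩
  have : g * ⟨b, hb⟩ * g⁻¹ ∈ (S : Subgroup H) := by
    rw [← hg, Sylow.coe_subgroup_smul, Subgroup.mem_pointwise_smul_iff_inv_smul_mem]
    simp [MulAut.smul_def, MulAut.conj_apply, mul_assoc, T]
  obtain ⟨n, hn⟩ := this
  exact ⟨n, congrArg Subtype.val hn⟩

namespace Loc

variable {z : G} {Q : Subgroup G} {p : Fin 5 → G} {x : G} {c : Cfg z Q p x} {K : Subgroup G}
  {ι : K →* A5.P5} (L : Loc c K ι)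
include L

theorem exists_five_y : ∃ y : G, orderOf y = 5 ∧ Nat.card (cen y) = 50 := by
  haveI := Fact.mk Nat.prime_five
  have hd5 : 5 ∣ Nat.card (cen z) := by rw [c.d.hyp.cardC]; norm_num
  obtain ⟨⟨y, hy⟩, hyo⟩ := exists_prime_orderOf_dvd_card' 5 hd5
  rw [Subgroup.orderOf_mk] at hyo
  exact ⟨y, hyo, L.card_cen_five' hy hyo⟩

/-- Centralisers of elements of order 5. -/
theorem cen_five_cases {f : K} (ho : orderOf f = 5) (hf : ι f = A5.f₀) {u : G} (hu : orderOf u = 5) :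
    (∃ g : G, cen (g * u * g⁻¹) = cen (f : G)) ∨ Nat.card (cen u) = 50 := by
  obtain ⟨y, hyo, hy⟩ := L.exists_five_y
  obtain ⟨g, hg⟩ := L.five_classes ho hf hyo hy hu
  have hfo : orderOf (f : G) = 5 := by rw [Subgroup.orderOf_coe, ho]
  have hne : g * u * g⁻¹ ≠ 1 := fun e => by
    rw [conj_eq_one_iff.1 e, orderOf_one] at hu; norm_num at hu
  rcases hg with h | h
  · exact Or.inl ⟨g, cen_eq_of_zpowers_eq (zpowers_eq_of_mem Nat.prime_five hfo h hne)⟩
  · right
    rw [← card_cen_conj g u, cen_eq_of_zpowers_eq (zpowers_eq_of_mem Nat.prime_five hyo h hne), hy]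

theorem card_cen_five_or {u : G} (hu : orderOf u = 5) : Nat.card (cen u) = 300 ∨ Nat.card (cen u) = 50 := by
  obtain ⟨f, ho, hf⟩ := L.exists_five
  refine (L.cen_five_cases ho hf hu).imp_left ?_
  rintro ⟨g, hg⟩
  rw [← card_cen_conj g u, hg, L.card_cen_five ho]

variable {r : G} (hr3 : orderOf r = 3) (hrK : ∀ k ∈ K, r * k = k * r)
include hr3 hrK

theorem r_mem_cen_z : r ∈ cen z := mem_cen.2 (hrK z L.z_mem)

theorem card_cen_r : Nat.card (cen r) = 1080 := by
  classical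
  haveI := Fact.mk Nat.prime_five
  haveI := Fact.mk Nat.prime_two
  set H := cen r
  have hrz := L.r_mem_cen_z hr3 hrK
  obtain ⟨f, ho, hf⟩ := L.exists_five
  have hfo : orderOf (f : G) = 5 := by rw [Subgroup.orderOf_coe, ho]
  have hfH : (f : G) ∈ H := mem_cen.2 (hrK f f.2).symm
  -- the 2-part
  have hr1 : r ≠ 1 := fun e => by rw [e, orderOf_one] at hr3; norm_num at hr3
  have hD := card_D c hrz (by rw [← hr3, pow_orderOf_eq_one]) hr1
  have hDidx := not_dvd_index_two (H := H) inf_le_right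
    (IsPGroup.of_card (n := 3) (by rw [hD]; norm_num)) (D_max c hrz hr3)
  have hmulD := Subgroup.card_mul_index ((Q ⊓ cen r).subgroupOf H)
  rw [Nat.card_congr (Subgroup.subgroupOfEquivOfLe (inf_le_right : Q ⊓ cen r ≤ H)).toEquiv, hD] at hmulD
  -- the 5-part
  have h25 : ¬ 25 ∣ Nat.card H := by
    intro h
    obtain ⟨S, hS⟩ := Sylow.exists_subgroup_card_pow_prime (G := H) 5 (n := 2) (by norm_num; exact h)
    obtain ⟨P, hP⟩ := ((IsPGroup.of_card hS).map H.subtype).exists_le_sylow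
    have hPS : (P : Subgroup G) = S.map H.subtype := (Subgroup.eq_of_le_of_card_ge hP (by
      rw [Subgroup.card_map_of_injective H.subtype_injective, hS]
      exact (L.card_sylow_five P).le)).symm
    have hrP : r ∈ cenS (P : Subgroup G) := by
      rw [hPS]
      rintro _ ⟨s, -, rfl⟩
      exact mem_cen.1 s.2
    rw [L.cenS_five P] at hrP
    have := (P : Subgroup G).orderOf_dvd_natCard hrP
    rw [hr3, L.card_sylow_five P] at this
    norm_num at this
  -- the centraliser of `f` in `H`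
  have h15 : Nat.card (H ⊓ cen (f : G) : Subgroup G) = 15 := by
    have hd : Nat.card (H ⊓ cen (f : G) : Subgroup G) ∣ 2 ^ 2 * 75 := by
      have := Subgroup.card_dvd_of_le (inf_le_right : H ⊓ cen (f : G) ≤ cen (f : G))
      rw [L.card_cen_five ho] at this
      simpa using this
    have hodd : ¬ 2 ∣ Nat.card (H ⊓ cen (f : G) : Subgroup G) := by
      intro h
      obtain ⟨⟨w, hw⟩, hwo⟩ := exists_prime_orderOf_dvd_card' 2 h
      rw [Subgroup.orderOf_mk] at hwo
      have hw1 : w ≠ 1 := fun e => by rw [e, orderOf_one] at hwo; norm_num at hwo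
      exact c.not_conj ((isConj_z_of_cen c hrz hr3 hw.1 (sq_of_orderOf hwo) hw1).trans
        (L.isConj_x_of_cen (Or.inr rfl) ho hw.2 (sq_of_orderOf hwo) hw1).symm)
    have h75 := odd_dvd hd hodd
    have h3 : 3 ∣ Nat.card (H ⊓ cen (f : G) : Subgroup G) :=
      hr3 ▸ (H ⊓ cen (f : G)).orderOf_dvd_natCard ⟨mem_cen.2 rfl, mem_cen.2 (hrK f f.2)⟩
    have h5 : 5 ∣ Nat.card (H ⊓ cen (f : G) : Subgroup G) :=
      hfo ▸ (H ⊓ cen (f : G)).orderOf_dvd_natCard ⟨hfH, mem_cen.2 rfl⟩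
    have hn25 : ¬ 25 ∣ Nat.card (H ⊓ cen (f : G) : Subgroup G) := fun h =>
      h25 (h.trans (Subgroup.card_dvd_of_le inf_le_left))
    obtain ⟨k, hk⟩ : 15 ∣ Nat.card (H ⊓ cen (f : G) : Subgroup G) :=
      Nat.Coprime.mul_dvd_of_dvd_of_dvd (m := 3) (n := 5) (by norm_num) h3 h5
    rw [hk] at h75 hn25 ⊢
    have : k ∣ 5 := Nat.dvd_of_mul_dvd_mul_left (by norm_num : 0 < 15) h75
    rcases (Nat.dvd_prime Nat.prime_five).1 this with rfl | rfl
    · rfl
    · exact absurd (by norm_num : 25 ∣ 15 * 5) hn25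
  -- the normaliser of `⟨f⟩` in `H`
  obtain ⟨b, hb, -, -, hbf⟩ := A5.invert_five
  obtain ⟨j, hj⟩ := L.el_exists hb
  have hjf : (j : G) * (f : G) * (j : G)⁻¹ = (f : G)⁻¹ := by
    have : j * f * j⁻¹ = f⁻¹ := L.inj (by rw [map_mul, map_mul, map_inv, map_inv, hj, hf, hbf])
    exact congrArg Subtype.val this
  set F := Subgroup.zpowers (f : G)
  have hnorF : ∀ w : G, w * (f : G) * w⁻¹ ∈ F → w ∈ nor F := fun w hw => mem_nor_of_conj fun a ha =>
    Subgroup.zpowers_le.2 hw (zpowers_conj w _ ha)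
  have hinvne : (f : G)⁻¹ ≠ f := fun e => by
    have h2 : (f : G) ^ 2 = 1 := by rw [pow_two]; nth_rw 1 [← e]; rw [inv_mul_cancel]
    have := orderOf_dvd_of_pow_eq_one h2
    rw [hfo] at this
    norm_num at this
  have h30 : Nat.card (nor F ⊓ H : Subgroup G) = 30 := by
    rw [card_of_inverting (N := nor F ⊓ H)
      ⟨hnorF _ (by rw [hjf]; exact inv_mem (Subgroup.mem_zpowers _)), mem_cen.2 (hrK j j.2).symm⟩ hjf hinvne
      fun w hw => L.inv_or_self ho hf (conj_mem_of_nor hw.1 (Subgroup.mem_zpowers _))]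
    have e : nor F ⊓ H ⊓ cen (f : G) = H ⊓ cen (f : G) := by
      ext w
      simp only [Subgroup.mem_inf]
      constructor
      · rintro ⟨⟨-, h1⟩, h2⟩; exact ⟨h1, h2⟩
      · rintro ⟨h1, h2⟩
        exact ⟨⟨hnorF _ (by rw [mul_inv_eq_iff_eq_mul.2 (mem_cen.1 h2)]; exact Subgroup.mem_zpowers _), h1⟩, h2⟩
    rw [e, h15]
  have hFH : F ≤ H := Subgroup.zpowers_le.2 hfH
  obtain ⟨n, hn1, hn⟩ := sylow_count hFH
    (IsPGroup.of_card (n := 1) (by rw [Nat.card_zpowers, hfo, pow_one])) (fun h => h25 (by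
      obtain ⟨k, hk⟩ := h
      have := Subgroup.card_mul_index (F.subgroupOf H)
      rw [Nat.card_congr (Subgroup.subgroupOfEquivOfLe hFH).toEquiv, Nat.card_zpowers, hfo, hk] at this
      exact ⟨k, by rw [← this]; ring⟩))
  rw [h30] at hn
  have hdiv := Subgroup.card_subgroup_dvd_card H
  rw [L.card_G', ← hn, show (604800 : ℕ) = 20160 * 30 by rfl] at hdiv
  have hn' : n ∣ 20160 := Nat.dvd_of_mul_dvd_mul_right (by norm_num : 0 < 30) hdiv
  set i := ((Q ⊓ cen r).subgroupOf H).index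
  obtain ⟨t, ht⟩ : 4 ∣ n := by omega
  have hto : ¬ 2 ∣ t := by omega
  have ht' : t ∣ 315 := odd_dvd (a := 4) (n := t) (b := 315) (by
    rw [ht, show (20160 : ℕ) = 4 * (2 ^ 4 * 315) by rfl] at hn'
    exact Nat.dvd_of_mul_dvd_mul_left (by norm_num : 0 < 4) hn') hto
  have hmem := Nat.mem_divisors.2 ⟨ht', (by norm_num : (315 : ℕ) ≠ 0)⟩
  rw [show Nat.divisors 315 = {1, 3, 5, 7, 9, 15, 21, 35, 45, 63, 105, 315} by decide +kernel] at hmem
  simp only [Finset.mem_insert, Finset.mem_singleton] at hmem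
  omega

theorem card_cen_u {u : K} (huo : orderOf u = 3) (hrx : r * x ≠ x * r)
    (hrV : ∀ v ∈ L.V, r * v * r⁻¹ ∈ L.V) :
    (∀ w ∈ cen (u : G), ∀ v ∈ L.V, w * v * w⁻¹ ∈ L.V) ∧ Nat.card (cen (u : G)) = 36 := by
  rcases L.bsw_dichotomy (Or.inl rfl) huo with hn | h
  · exact ⟨hn, L.card_normal_case (Or.inl rfl) huo hr3 hrK hrx hrV hn⟩
  exfalso
  haveI := Fact.mk Nat.prime_five
  haveI := Fact.mk Nat.prime_three
  obtain ⟨f, ho, hf⟩ := L.exists_five
  obtain ⟨⟨y, hy⟩, hyo⟩ := exists_prime_orderOf_dvd_card' 5 (show 5 ∣ Nat.card (cen (u : G)) by rw [h]; norm_num)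
  rw [Subgroup.orderOf_mk] at hyo
  have huo' : orderOf (u : G) = 3 := by rw [Subgroup.orderOf_coe, huo]
  have huy : (u : G) ∈ cen y := mem_cen.2 (mem_cen.1 hy).symm
  rcases L.cen_five_cases ho hf hyo with ⟨g, hg⟩ | h50
  · have hu' : g * (u : G) * g⁻¹ ∈ cen (f : G) := hg ▸ mem_cen_conj.2 huy
    have hu'o : orderOf (g * (u : G) * g⁻¹) = 3 :=
      (Invol.orderOf_eq_of_isConj (Invol.isConj_conj g (u : G))).symm.trans huo'
    obtain ⟨k, -, hk⟩ := exists_conj_mem_prime (q := 3) (H := cen (f : G))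
      (by rw [L.card_cen_five ho]; norm_num) (mem_cen.2 (hrK f f.2)) hu' hr3 hu'o
    have hne : k * (g * (u : G) * g⁻¹) * k⁻¹ ≠ 1 := fun e => by
      rw [conj_eq_one_iff.1 e, orderOf_one] at hu'o; norm_num at hu'o
    have e1 := cen_eq_of_zpowers_eq (zpowers_eq_of_mem Nat.prime_three hr3 hk hne)
    have : Nat.card (cen (u : G)) = 1080 := by
      rw [← card_cen_conj g (u : G), ← card_cen_conj k, e1, L.card_cen_r hr3 hrK]
    omega
  · have := (cen y).orderOf_dvd_natCard huy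
    rw [huo', h50] at this
    norm_num at this

theorem card_E {u : K} (huo : orderOf u = 3) (hrx : r * x ≠ x * r) (hrV : ∀ v ∈ L.V, r * v * r⁻¹ ∈ L.V) :
    Nat.card (cen r ⊓ cen (u : G) : Subgroup G) = 9 := by
  haveI := Fact.mk Nat.prime_two
  haveI := Fact.mk Nat.prime_three
  obtain ⟨-, h36⟩ := L.card_cen_u hr3 hrK huo hrx hrV
  have huo' : orderOf (u : G) = 3 := by rw [Subgroup.orderOf_coe, huo]
  set E := cen r ⊓ cen (u : G) with hE
  have hrE : r ∈ E := ⟨mem_cen.2 rfl, mem_cen.2 (hrK u u.2)⟩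
  have huE : (u : G) ∈ E := ⟨mem_cen.2 (hrK u u.2).symm, mem_cen.2 rfl⟩
  have hd : Nat.card E ∣ 2 ^ 2 * 9 := by
    have := Subgroup.card_dvd_of_le (inf_le_right : E ≤ cen (u : G))
    rw [h36] at this
    norm_num only
    exact this
  have hodd : ¬ 2 ∣ Nat.card E := by
    intro h
    obtain ⟨⟨w, hw⟩, hwo⟩ := exists_prime_orderOf_dvd_card' 2 h
    rw [Subgroup.orderOf_mk] at hwo
    have hw1 : w ≠ 1 := fun e => by rw [e, orderOf_one] at hwo; norm_num at hwo
    exact c.not_conj ((isConj_z_of_cen c (L.r_mem_cen_z hr3 hrK) hr3 hw.1 (sq_of_orderOf hwo) hw1).trans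
      (L.isConj_x_of_cen (Or.inl rfl) huo hw.2 (sq_of_orderOf hwo) hw1).symm)
  have h9 := odd_dvd hd hodd
  have h3 : 3 ∣ Nat.card E := hr3 ▸ E.orderOf_dvd_natCard hrE
  obtain ⟨i, hi9, hi⟩ := (Nat.dvd_prime_pow Nat.prime_three).1 (show Nat.card E ∣ 3 ^ 2 by simpa using h9)
  have hne : Nat.card E ≠ 3 := by
    intro h
    have hz : Subgroup.zpowers r = E :=
      Subgroup.eq_of_le_of_card_ge (Subgroup.zpowers_le.2 hrE) (by rw [Nat.card_zpowers, hr3, h])
    have hur : (u : G) ∈ Subgroup.zpowers r := hz.symm ▸ huE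
    have hu1 : (u : G) ≠ 1 := fun e => by rw [e, orderOf_one] at huo'; norm_num at huo'
    have e := cen_eq_of_zpowers_eq (zpowers_eq_of_mem Nat.prime_three hr3 hur hu1)
    rw [e, L.card_cen_r hr3 hrK] at h36
    norm_num at h36
  interval_cases i
  · rw [hi] at h3; norm_num at h3
  · exact absurd hi hne
  · exact hi

end Loc

end Cfsg.Agent.J2Loc
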