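import Cfsg.Agent.J2Loc.Three

/-!
The Sylow 3-subgroup, its normaliser and the classes of elements of order 3.
-/

set_option autoImplicit false
set_option linter.style.haveILetI false
set_option linter.unusedSectionVars false

namespace Cfsg.Agent.J2Loc

open Cfsg Cfsg.Agent.LargeExtra Cfsg.Agent.J2Type

variable {G : Type*} [Group G] [Finite G]

theorem zpowers_three {a b : G} (ha : orderOf a = 3) (hb : b ∈ Subgroup.zpowers a) :
    b = 1 ∨ b = a ∨ b = a⁻¹ := by
  rw [← mem_powers_iff_mem_zpowers] at hb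
  obtain ⟨m, rfl⟩ := hb
  show a ^ m = 1 ∨ a ^ m = a ∨ a ^ m = a⁻¹
  rw [← pow_mod_orderOf, ha]
  rcases (by omega : m % 3 = 0 ∨ m % 3 = 1 ∨ m % 3 = 2) with e | e | e <;> rw [e]
  · exact Or.inl (pow_zero a)
  · exact Or.inr (Or.inl (pow_one a))
  · exact Or.inr (Or.inr (eq_inv_of_mul_eq_one_left (by rw [← pow_succ, show a ^ (2 + 1) = a ^ orderOf a by rw [ha], pow_orderOf_eq_one])))

namespace Loc

variable {z : G} {Q : Subgroup G} {p : Fin 5 → G} {x : G} {c : Cfg z Q p x} {K : Subgroup G}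
  {ι : K →* A5.P5} (L : Loc c K ι)
include L

theorem exists_three : ∃ u : K, orderOf u = 3 ∧ ι u = A5.s₀ := by
  obtain ⟨c3, c3', -⟩ := A5.consts
  obtain ⟨u, hu⟩ := L.el_exists A5.sign_consts.1
  haveI := Fact.mk Nat.prime_three
  exact ⟨u, orderOf_eq_prime (L.inj (by rw [map_pow, hu, pow_succ, pow_two, c3, map_one]))
    fun e => c3' (by rw [← hu, e, map_one]), hu⟩

theorem card_sylow_three (P : Sylow 3 G) : Nat.card P = 27 := by
  haveI := Fact.mk Nat.prime_three
  rw [card_sylow_of P (k := 3) (m := 22400) (by rw [L.card_G']; norm_num) (by norm_num)]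
  norm_num

/-- An element of the centraliser of `z` inverting a given element of order 3 there. -/
theorem exists_inv_cen_z {t : G} (ht : t ∈ cen z) (hto : orderOf t = 3) :
    ∃ w ∈ cen z, w * t * w⁻¹ = t⁻¹ := by
  haveI := Fact.mk Nat.prime_three
  have hle : Subgroup.zpowers t ≤ cen z := Subgroup.zpowers_le.2 ht
  obtain ⟨n, hn1, hn⟩ := sylow_count hle (IsPGroup.of_card (n := 1) (by rw [Nat.card_zpowers, hto, pow_one]))
    (fun h => by
      obtain ⟨k, hk⟩ := h
      have := Subgroup.card_mul_index ((Subgroup.zpowers t).subgroupOf (cen z))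
      rw [Nat.card_congr (Subgroup.subgroupOfEquivOfLe hle).toEquiv, Nat.card_zpowers, hto, hk,
        show Nat.card (cen z) = 1920 from c.d.hyp.cardC] at this
      omega)
  rw [show Nat.card (cen z) = 1920 from c.d.hyp.cardC] at hn
  by_contra hcon
  push Not at hcon
  have hsub : nor (Subgroup.zpowers t) ⊓ cen z ≤ cen z ⊓ cen t := by
    intro w hw
    refine ⟨hw.2, mem_cen.2 (mul_inv_eq_iff_eq_mul.1 ?_)⟩
    rcases zpowers_three hto (conj_mem_of_nor hw.1 (Subgroup.mem_zpowers t)) with e | e | e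
    · rw [conj_eq_one_iff.1 e, orderOf_one] at hto; norm_num at hto
    · exact e
    · exact absurd e (hcon w hw.2)
  have hsup : cen z ⊓ cen t ≤ nor (Subgroup.zpowers t) ⊓ cen z := fun w hw =>
    ⟨mem_nor_of_conj fun a ha => by
      rwa [mul_inv_eq_iff_eq_mul.2 (mem_cen.1 (cen_le_of_mem_zpowers ha hw.2))], hw.1⟩
  rw [le_antisymm hsub hsup, card_z_three c ht hto] at hn
  omega

structure ThreeData (r : G) (u : K) (P : Subgroup G) : Prop where
  hr3 : orderOf r = 3
  hrK : ∀ k ∈ K, r * k = k * r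
  hrx : r * x ≠ x * r
  hrV : ∀ v ∈ L.V, r * v * r⁻¹ ∈ L.V
  huo : orderOf u = 3
  hus : ι u = A5.s₀
  card : Nat.card P = 27
  le : P ≤ cen r
  hE : cen r ⊓ cen (u : G) ≤ P

theorem exists_threeData : ∃ r u P, L.ThreeData r u P := by
  haveI := Fact.mk Nat.prime_three
  obtain ⟨r, hr3, hrK, hrx, hrV⟩ := L.exists_r
  obtain ⟨u, huo, hus⟩ := L.exists_three
  set H := cen r
  have h9 := L.card_E hr3 hrK huo hrx hrV
  obtain ⟨S, hS, hle⟩ := Sylow.exists_subgroup_card_pow_succ (p := 3) (n := 2) (G := H)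
    (by rw [L.card_cen_r hr3 hrK]; norm_num) (H := (cen r ⊓ cen (u : G)).subgroupOf H)
    (by rw [Nat.card_congr (Subgroup.subgroupOfEquivOfLe (inf_le_left : cen r ⊓ cen (u : G) ≤ H)).toEquiv, h9]
        norm_num)
  refine ⟨r, u, S.map H.subtype, hr3, hrK, hrx, hrV, huo, hus, ?_, Subgroup.map_subtype_le _, ?_⟩
  · rw [Subgroup.card_map_of_injective H.subtype_injective, hS]; norm_num
  · exact fun e he => ⟨⟨e, he.1⟩, hle he, rfl⟩

namespace ThreeData

variable {L} {r : G} {u : K} {P : Subgroup G} (D : L.ThreeData r u P)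
include D

theorem r_mem : r ∈ P := D.hE ⟨mem_cen.2 rfl, mem_cen.2 (D.hrK u u.2)⟩

theorem u_mem : (u : G) ∈ P := D.hE ⟨mem_cen.2 (D.hrK u u.2).symm, mem_cen.2 rfl⟩

theorem u_order : orderOf (u : G) = 3 := by rw [Subgroup.orderOf_coe, D.huo]

theorem card_cu : Nat.card (cen (u : G)) = 36 := (L.card_cen_u D.hr3 D.hrK D.huo D.hrx D.hrV).2

theorem not_comm : ¬ IsMulCommutative P := by
  intro h
  have hle : P ≤ cen (u : G) := fun a ha => mem_cen.2
    (congrArg Subtype.val (h.is_comm.comm ⟨a, ha⟩ ⟨u, D.u_mem⟩))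
  have := Subgroup.card_dvd_of_le hle
  rw [D.card, D.card_cu] at this
  norm_num at this

theorem extra : Cfsg.IsExtraspecial 3 P ∧ ∀ a ∈ P, (∀ b ∈ P, b * a = a * b) → a ∈ Subgroup.zpowers r := by
  haveI := Fact.mk Nat.prime_three
  obtain ⟨h1, h2⟩ := isExtraspecial_cube (X := P) (q := 3) (by rw [D.card]; norm_num) D.not_comm
  refine ⟨h1, fun a ha hcm => ?_⟩
  have hrc : (⟨r, D.r_mem⟩ : P) ∈ Subgroup.center P :=
    Subgroup.mem_center_iff.2 fun b => Subtype.ext (mem_cen.1 (D.le b.2))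
  have hz : Subgroup.zpowers (⟨r, D.r_mem⟩ : P) = Subgroup.center P :=
    Subgroup.eq_of_le_of_card_ge (Subgroup.zpowers_le.2 hrc) (by
      rw [h2, Nat.card_zpowers, Subgroup.orderOf_mk, D.hr3])
  have hac : (⟨a, ha⟩ : P) ∈ Subgroup.center P := Subgroup.mem_center_iff.2 fun b => Subtype.ext (hcm b b.2)
  rw [← hz] at hac
  obtain ⟨n, hn⟩ := hac
  exact ⟨n, congrArg Subtype.val hn⟩

theorem P_le_norE : P ≤ nor (cen r ⊓ cen (u : G)) := by
  intro w hw
  refine mem_nor_of_conj fun e he => ?_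
  obtain ⟨h1, -⟩ := D.extra
  have hcm := Cfsg.Agent.PGroup.special_commutatorElement_mem h1.1 (⟨w, hw⟩ : P) ⟨e, D.hE he⟩
  obtain ⟨-, hz⟩ := D.extra
  have hd : w * e * w⁻¹ * e⁻¹ ∈ Subgroup.zpowers r := by
    refine hz _ (mul_mem (mul_mem (mul_mem hw (D.hE he)) (inv_mem hw)) (inv_mem (D.hE he))) fun b hb => ?_
    exact congrArg Subtype.val (Subgroup.mem_center_iff.1 hcm ⟨b, hb⟩)
  have hrE : r ∈ cen r ⊓ cen (u : G) := ⟨mem_cen.2 rfl, mem_cen.2 (D.hrK u u.2)⟩
  have := mul_mem (Subgroup.zpowers_le.2 hrE hd) he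
  simpa [mul_assoc] using this

theorem index_cen_r : ¬ 3 ∣ (P.subgroupOf (cen r)).index := by
  intro h
  obtain ⟨k, hk⟩ := h
  have := Subgroup.card_mul_index (P.subgroupOf (cen r))
  rw [Nat.card_congr (Subgroup.subgroupOfEquivOfLe D.le).toEquiv, D.card, hk,
    L.card_cen_r D.hr3 D.hrK] at this
  omega

theorem isPGroup : IsPGroup 3 P := IsPGroup.of_card (n := 3) (by rw [D.card]; norm_num)

theorem exists_involution_norm : ∃ j : G, j ∈ nor P ⊓ cen r ∧ orderOf j = 2 := by
  classical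
  haveI : Fintype G := Fintype.ofFinite G
  obtain ⟨b, hb, hb2, hb1, hbs⟩ := A5.invert_three
  obtain ⟨j, hj⟩ := L.el_exists hb
  have hjo : orderOf (j : G) = 2 := by
    rw [Subgroup.orderOf_coe]
    exact orderOf_two (L.inj (by rw [map_mul, hj, hb2, map_one])) fun e => hb1 (by rw [← hj, e, map_one])
  have hju : (j : G) * (u : G) * (j : G)⁻¹ = (u : G)⁻¹ := by
    have : j * u * j⁻¹ = u⁻¹ := L.inj (by rw [map_mul, map_mul, map_inv, map_inv, hj, D.hus, hbs])
    exact congrArg Subtype.val this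
  have hjr : (j : G) ∈ cen r := mem_cen.2 (D.hrK j j.2).symm
  set E := cen r ⊓ cen (u : G) with hE
  have hjE : (j : G) ∈ nor E := mem_nor_of_conj fun e he => by
    refine Subgroup.mem_inf.2 ⟨mul_mem (mul_mem hjr he.1) (inv_mem hjr),
      cen_le_of_mem_zpowers (a := (u : G)⁻¹) (by simp) ?_⟩
    have : (j : G) * e * (j : G)⁻¹ ∈ cen ((j : G) * u * (j : G)⁻¹) := mem_cen_conj.2 he.2
    rwa [hju] at this
  set N := nor E ⊓ cen r
  let S := Finset.univ.filter fun a : G => a ∈ E ∧ a ∉ Subgroup.zpowers r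
  have hS : S.card ≤ 6 := by
    have h1 : S = (Finset.univ.filter fun a : G => a ∈ E) \ (Finset.univ.filter fun a : G => a ∈ Subgroup.zpowers r) := by
      ext a; simp [S]
    have hrE : r ∈ E := ⟨mem_cen.2 rfl, mem_cen.2 (D.hrK u u.2)⟩
    have c1 : (Finset.univ.filter fun a : G => a ∈ E).card = 9 := by
      rw [← Fintype.card_subtype, ← Nat.card_eq_fintype_card]
      exact L.card_E D.hr3 D.hrK D.huo D.hrx D.hrV
    have c2 : (Finset.univ.filter fun a : G => a ∈ Subgroup.zpowers r).card = 3 := by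
      rw [← Fintype.card_subtype, ← Nat.card_eq_fintype_card]
      exact (Nat.card_zpowers r).trans D.hr3
    rw [h1, Finset.card_sdiff_of_subset (fun a ha => by
      simp only [Finset.mem_filter, Finset.mem_univ, true_and] at ha ⊢
      exact Subgroup.zpowers_le.2 hrE ha), c1, c2]
  have hmap : ∀ w ∈ N, w * (u : G) * w⁻¹ ∈ S := by
    intro w hw
    refine Finset.mem_filter.2 ⟨Finset.mem_univ _, conj_mem_of_nor hw.1 ⟨mem_cen.2 (D.hrK u u.2).symm, mem_cen.2 rfl⟩,
      fun h => ?_⟩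
    have hne : w * (u : G) * w⁻¹ ≠ 1 := fun e => by
      have := D.u_order
      rw [conj_eq_one_iff.1 e, orderOf_one] at this
      norm_num at this
    have h1 := card_cen_conj w (u : G)
    rw [cen_eq_of_zpowers_eq (zpowers_eq_of_mem Nat.prime_three D.hr3 h hne),
      L.card_cen_r D.hr3 D.hrK, D.card_cu] at h1
    norm_num at h1
  have hN54 : Nat.card N ≤ 54 := by
    refine (card_le_mul_of_conj N (u : G) S hmap).1.trans ?_
    have : Nat.card (N ⊓ cen (u : G) : Subgroup G) ≤ 9 := by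
      rw [← L.card_E D.hr3 D.hrK D.huo D.hrx D.hrV]
      exact Subgroup.card_le_of_le fun w hw => ⟨hw.1.2, hw.2⟩
    exact Nat.mul_le_mul hS this
  have hjN : (j : G) ∈ N := ⟨hjE, hjr⟩
  have hPN : P ≤ N := le_inf D.P_le_norE D.le
  obtain ⟨m, hm⟩ := Subgroup.card_dvd_of_le hPN
  rw [D.card] at hm
  have h2 : 2 ∣ Nat.card N := hjo ▸ N.orderOf_dvd_natCard hjN
  have hidx : (P.subgroupOf N).index = 2 := by
    have := Subgroup.card_mul_index (P.subgroupOf N)
    rw [Nat.card_congr (Subgroup.subgroupOfEquivOfLe hPN).toEquiv, D.card, hm] at this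
    rw [hm] at h2 hN54
    have hpos : 0 < Nat.card N := Nat.card_pos
    omega
  have hnorm := Subgroup.normal_of_index_eq_two hidx
  exact ⟨j, ⟨mem_nor_of_conj fun a ha => hnorm.conj_mem ⟨a, hPN ha⟩ ha ⟨j, hjN⟩, hjr⟩, hjo⟩

theorem card_nor_H : Nat.card (nor P ⊓ cen r : Subgroup G) = 108 := by
  classical
  haveI := Fact.mk Nat.prime_three
  haveI := Fact.mk Nat.prime_five
  set N := nor P ⊓ cen r
  obtain ⟨n, hn1, hn⟩ := sylow_count D.le D.isPGroup D.index_cen_r
  rw [L.card_cen_r D.hr3 D.hrK] at hn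
  obtain ⟨m, hm⟩ := Subgroup.card_dvd_of_le (le_inf Subgroup.le_normalizer D.le : P ≤ N)
  rw [D.card] at hm
  obtain ⟨j, hjN, hjo⟩ := D.exists_involution_norm
  have h2 : 2 ∣ Nat.card N := hjo ▸ N.orderOf_dvd_natCard hjN
  -- no element of order five normalises `P`
  have h5 : ¬ 5 ∣ Nat.card N := by
    intro h
    obtain ⟨⟨g, hg⟩, hgo⟩ := exists_prime_orderOf_dvd_card' 5 h
    rw [Subgroup.orderOf_mk] at hgo
    have hrg : r ∈ cen g := mem_cen.2 (mem_cen.1 hg.2).symm
    have h300 : Nat.card (cen g) = 300 := (L.card_cen_five_or hgo).resolve_right fun h50 => by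
      have := (cen g).orderOf_dvd_natCard hrg
      rw [D.hr3, h50] at this
      norm_num at this
    have hI : Nat.card (P ⊓ cen g : Subgroup G) = 3 := by
      refine le_antisymm (Nat.le_of_dvd (by norm_num) ?_) ?_
      · have h1 := Subgroup.card_dvd_of_le (inf_le_left : P ⊓ cen g ≤ P)
        have h2 := Subgroup.card_dvd_of_le (inf_le_right : P ⊓ cen g ≤ cen g)
        rw [D.card] at h1
        rw [h300] at h2
        exact Nat.dvd_gcd h1 h2
      · rw [← D.hr3, ← Nat.card_zpowers]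
        exact Subgroup.card_le_of_le (Subgroup.zpowers_le.2 ⟨D.r_mem, hrg⟩)
    let gN : nor P := ⟨g, hg.1⟩
    let A := Subgroup.zpowers gN
    letI : MulAction A P := MulAction.compHom P ((Subgroup.normalizerMonoidHom P).comp A.subtype)
    have hA : IsPGroup 5 A := IsPGroup.of_card (n := 1) (by
      rw [Nat.card_zpowers, Subgroup.orderOf_mk, hgo, pow_one])
    have hsmul : ∀ (a : A) (b : P), ((a • b : P) : G) = ((a : nor P) : G) * b * ((a : nor P) : G)⁻¹ :=
      fun a b => rfl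
    have hmod := hA.card_modEq_card_fixedPoints (α := P)
    have hfix : Nat.card (MulAction.fixedPoints A P) = Nat.card (P ⊓ cen g : Subgroup G) := by
      refine Nat.card_congr
        { toFun := fun b => ⟨(b : P), Subgroup.mem_inf.2 ⟨b.1.2, mem_cen.2 ?_⟩⟩
          invFun := fun b => ⟨⟨b, b.2.1⟩, ?_⟩
          left_inv := fun b => rfl
          right_inv := fun b => rfl }
      · have := congrArg Subtype.val (b.2 ⟨gN, Subgroup.mem_zpowers _⟩)
        rw [hsmul] at this
        exact (mul_inv_eq_iff_eq_mul.1 this).symm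
      · rintro ⟨a, ha⟩
        refine Subtype.ext ?_
        rw [hsmul]
        obtain ⟨k, rfl⟩ := ha
        refine mul_inv_eq_iff_eq_mul.2 ?_
        show (g : G) ^ k * (b : G) = b * g ^ k
        exact ((show Commute (b : G) g from mem_cen.1 b.2.2).zpow_right k).eq.symm
    rw [hfix, hI, D.card] at hmod
    exact absurd hmod (by decide)
  rw [hm] at hn h2 h5
  rw [hm]
  have hnm : n * m = 40 := by
    have : n * (27 * m) = 27 * (n * m) := by ring
    omega
  have hm40 := Nat.mem_divisors.2 ⟨(⟨n, by rw [← hnm, mul_comm]⟩ : m ∣ 40), (by norm_num : (40 : ℕ) ≠ 0)⟩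
  rw [show Nat.divisors 40 = {1, 2, 4, 5, 8, 10, 20, 40} by decide +kernel] at hm40
  simp only [Finset.mem_insert, Finset.mem_singleton] at hm40
  rcases hm40 with rfl | rfl | rfl | rfl | rfl | rfl | rfl | rfl <;> omega

theorem exists_inverting : ∃ w ∈ nor P, w * r * w⁻¹ = r⁻¹ := by
  haveI := Fact.mk Nat.prime_three
  obtain ⟨i, -, hir⟩ := L.exists_inv_cen_z (L.r_mem_cen_z D.hr3 D.hrK) D.hr3
  obtain ⟨h, hh, hn⟩ := exists_fix_sylow D.le D.isPGroup D.index_cen_r (j := i) fun a ha => by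
    have h1 : i * a * i⁻¹ ∈ cen (i * r * i⁻¹) := mem_cen_conj.2 ha
    rw [hir] at h1
    exact cen_le_of_mem_zpowers (by simp) h1
  refine ⟨_, hn, ?_⟩
  calc h * i * r * (h * i)⁻¹ = h * (i * r * i⁻¹) * h⁻¹ := by group
    _ = _ := by rw [hir, mul_inv_eq_iff_eq_mul.2 ((show Commute h r from mem_cen.1 hh).inv_right).eq]

theorem conj_r {w : G} (hw : w ∈ nor P) : w * r * w⁻¹ = r ∨ w * r * w⁻¹ = r⁻¹ := by
  have h1 : w * r * w⁻¹ ∈ Subgroup.zpowers r := by
    refine D.extra.2 _ (conj_mem_of_nor hw D.r_mem) fun b hb => ?_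
    have hb' : w⁻¹ * b * w ∈ P := by
      have := conj_mem_of_nor (inv_mem hw) hb
      rwa [inv_inv] at this
    calc b * (w * r * w⁻¹) = w * ((w⁻¹ * b * w) * r) * w⁻¹ := by group
      _ = w * (r * (w⁻¹ * b * w)) * w⁻¹ := by rw [mem_cen.1 (D.le hb')]
      _ = _ := by group
  rcases zpowers_three D.hr3 h1 with e | e | e
  · have := D.hr3
    rw [conj_eq_one_iff.1 e, orderOf_one] at this
    norm_num at this
  · exact Or.inl e
  · exact Or.inr e

theorem r_inv_ne : r⁻¹ ≠ r := fun e => by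
  have h2 : r ^ 2 = 1 := by rw [pow_two]; nth_rw 1 [← e]; rw [inv_mul_cancel]
  have := orderOf_dvd_of_pow_eq_one h2
  rw [D.hr3] at this
  norm_num at this

theorem card_nor : Nat.card (nor P) = 216 := by
  obtain ⟨w, hw, hwr⟩ := D.exists_inverting
  rw [card_of_inverting hw hwr D.r_inv_ne fun v hv => D.conj_r hv, D.card_nor_H]

theorem card_nor_inf_cu : Nat.card (nor P ⊓ cen (u : G) : Subgroup G) = 9 := by
  haveI := Fact.mk Nat.prime_two
  have hodd : ¬ 2 ∣ Nat.card (nor P ⊓ cen (u : G) : Subgroup G) := by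
    intro h
    obtain ⟨⟨w, hw⟩, hwo⟩ := exists_prime_orderOf_dvd_card' 2 h
    rw [Subgroup.orderOf_mk] at hwo
    have hw1 : w ≠ 1 := fun e => by rw [e, orderOf_one] at hwo; norm_num at hwo
    obtain ⟨hn, -⟩ := L.card_cen_u D.hr3 D.hrK D.huo D.hrx D.hrV
    obtain ⟨h, hh, hV⟩ := exists_conj_mem (L.V_le_cen u) L.V_isPGroup (L.V_max (Or.inl rfl) D.huo) hw.2
      (isPGroup_zpowers_of_sq (sq_of_orderOf hwo))
    have hwV : w ∈ L.V := by
      have := hn h⁻¹ (inv_mem hh) _ hV
      rwa [show h⁻¹ * (h * w * h⁻¹) * h⁻¹⁻¹ = w by group] at this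
    rcases D.conj_r hw.1 with e | e
    · have : r ∈ cen w := mem_cen.2 (mul_inv_eq_iff_eq_mul.1 e).symm
      rw [cen, L.centralizer_V hwV hw1, Subgroup.mem_centralizer_singleton_iff] at this
      exact D.hrx this
    · have hv : w * (r * w * r⁻¹) ∈ L.V := mul_mem hwV (D.hrV w hwV)
      have hwi : w⁻¹ = w := inv_eq_of_mul_eq_one_right (sq_of_orderOf hwo)
      have e2 : w * (r * w * r⁻¹) = r⁻¹ * r⁻¹ := by
        calc w * (r * w * r⁻¹) = w * r * w⁻¹ * r⁻¹ := by rw [hwi]; group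
          _ = _ := by rw [e]
      rw [e2] at hv
      have h4 := L.V_sq hv
      have hr3 : r ^ 3 = 1 := by rw [← D.hr3, pow_orderOf_eq_one]
      have hr1 : r = 1 := by
        calc r = r ^ 3 * r * (r⁻¹ * r⁻¹ * (r⁻¹ * r⁻¹)) := by rw [h4, hr3, one_mul, mul_one]
          _ = 1 := by group
      have := D.hr3
      rw [hr1, orderOf_one] at this
      norm_num at this
  have hd : Nat.card (nor P ⊓ cen (u : G) : Subgroup G) ∣ 2 ^ 2 * 9 := by
    have := Subgroup.card_dvd_of_le (inf_le_right : nor P ⊓ cen (u : G) ≤ cen (u : G))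
    rw [D.card_cu] at this
    norm_num only
    exact this
  refine le_antisymm (Nat.le_of_dvd (by norm_num) (odd_dvd hd hodd)) ?_
  rw [← L.card_E D.hr3 D.hrK D.huo D.hrx D.hrV]
  exact Subgroup.card_le_of_le (le_inf (D.hE.trans Subgroup.le_normalizer) inf_le_right)

theorem classes {t : G} (ht : orderOf t = 3) : IsConj t r ∨ IsConj t (u : G) := by
  classical
  haveI := Fact.mk Nat.prime_three
  haveI : Fintype G := Fintype.ofFinite G
  obtain ⟨P', hP'⟩ := D.isPGroup.exists_le_sylow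
  have hPP : (P' : Subgroup G) = P :=
    (Subgroup.eq_of_le_of_card_ge hP' (by rw [D.card]; exact (L.card_sylow_three P').le)).symm
  obtain ⟨T, hT⟩ := (IsPGroup.of_card (p := 3) (n := 1)
    (by rw [Nat.card_zpowers, ht, pow_one] : Nat.card (Subgroup.zpowers t) = 3 ^ 1)).exists_le_sylow
  obtain ⟨g, hg⟩ := sylow_conj P' T
  have htP : g * t * g⁻¹ ∈ P := by
    rw [← hPP, hg]
    exact ⟨t, hT (Subgroup.mem_zpowers _), rfl⟩
  have hconj : IsConj t (g * t * g⁻¹) := Invol.isConj_conj g t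
  by_cases hz : g * t * g⁻¹ ∈ Subgroup.zpowers r
  · left
    rcases zpowers_three D.hr3 hz with e | e | e
    · rw [conj_eq_one_iff.1 e, orderOf_one] at ht
      norm_num at ht
    · exact e ▸ hconj
    · obtain ⟨w, -, hw⟩ := D.exists_inverting
      exact (e ▸ hconj).trans (isConj_iff.2 ⟨w, hw⟩).symm
  · right
    let S := Finset.univ.filter fun a : G => a ∈ P ∧ a ∉ Subgroup.zpowers r
    have hmap : ∀ w ∈ nor P, w * (u : G) * w⁻¹ ∈ S := by
      intro w hw
      refine Finset.mem_filter.2 ⟨Finset.mem_univ _, conj_mem_of_nor hw D.u_mem, fun h => ?_⟩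
      have hne : w * (u : G) * w⁻¹ ≠ 1 := fun e => by
        have := D.u_order
        rw [conj_eq_one_iff.1 e, orderOf_one] at this
        norm_num at this
      have h1 := card_cen_conj w (u : G)
      rw [cen_eq_of_zpowers_eq (zpowers_eq_of_mem Nat.prime_three D.hr3 h hne),
        L.card_cen_r D.hr3 D.hrK, D.card_cu] at h1
      norm_num at h1
    have hS : S.card = 24 := by
      have h1 : S = (Finset.univ.filter fun a : G => a ∈ P) \ (Finset.univ.filter fun a : G => a ∈ Subgroup.zpowers r) := by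
        ext a; simp [S]
      rw [h1, Finset.card_sdiff_of_subset (fun a ha => by
          simp only [Finset.mem_filter, Finset.mem_univ, true_and] at ha ⊢
          exact Subgroup.zpowers_le.2 D.r_mem ha),
        ← Fintype.card_subtype, ← Fintype.card_subtype, ← Nat.card_eq_fintype_card, ← Nat.card_eq_fintype_card]
      show Nat.card P - Nat.card (Subgroup.zpowers r) = 24
      rw [D.card, Nat.card_zpowers, D.hr3]
    obtain ⟨w, -, hw⟩ := (card_le_mul_of_conj (nor P) (u : G) S hmap).2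
      (by rw [D.card_nor, hS, D.card_nor_inf_cu]) (g * t * g⁻¹)
      (Finset.mem_filter.2 ⟨Finset.mem_univ _, htP, hz⟩)
    exact hconj.trans (isConj_iff.2 ⟨w, hw⟩).symm

end ThreeData

/-- Centralisers of elements of order 3. -/
theorem card_cen_three {t : G} (ht : orderOf t = 3) : Nat.card (cen t) = 1080 ∨ Nat.card (cen t) = 36 := by
  obtain ⟨r, u, P, D⟩ := L.exists_threeData
  rcases D.classes ht with h | h
  · exact Or.inl (by rw [card_cen_of_isConj h.symm, L.card_cen_r D.hr3 D.hrK])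
  · exact Or.inr (by rw [card_cen_of_isConj h.symm, D.card_cu])

end Loc

end Cfsg.Agent.J2Loc
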