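import Cfsg.Agent.J2Loc.Setup
import Mathlib.Data.Nat.Factorization.Basic

/-!
An element of order 3 centralising `K` and permuting the involutions of `V`.
-/

set_option autoImplicit false
set_option linter.style.haveILetI false
set_option linter.unusedSectionVars false

namespace Cfsg.Agent.J2Loc

open Cfsg Cfsg.Agent.LargeExtra Cfsg.Agent.J2Type

variable {G : Type*} [Group G] [Finite G]

/-- Some power prime to 3 has 3-power order. -/
theorem exists_three_part (w : G) : ∃ m a : ℕ, ¬ 3 ∣ m ∧ (w ^ m) ^ 3 ^ a = 1 := by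
  obtain ⟨a, m, hm, he⟩ := Nat.exists_eq_pow_mul_and_not_dvd (orderOf_pos w).ne' 3 (by norm_num)
  exact ⟨m, a, hm, by rw [← pow_mul, mul_comm, ← he, pow_orderOf_eq_one]⟩

theorem pow_mem_iff_three {H : Subgroup G} {w : G} (h3 : w ^ 3 ∈ H) {m : ℕ} (hm : ¬ 3 ∣ m)
    (hwm : w ^ m ∈ H) : w ∈ H := by
  have hc : Nat.Coprime m 3 := ((Nat.prime_three.coprime_iff_not_dvd).2 hm).symm
  have e : w = (w ^ m) ^ Nat.gcdA m 3 * (w ^ 3) ^ Nat.gcdB m 3 := by
    rw [← zpow_natCast w m, ← zpow_natCast w 3, ← zpow_mul, ← zpow_mul, ← zpow_add,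
      ← Nat.gcd_eq_gcd_ab m 3, hc, Nat.cast_one, zpow_one]
  rw [e]
  exact mul_mem (zpow_mem hwm _) (zpow_mem h3 _)

namespace Loc

variable {z : G} {Q : Subgroup G} {p : Fin 5 → G} {x : G} {c : Cfg z Q p x} {K : Subgroup G}
  {ι : K →* A5.P5} (L : Loc c K ι)
include L

/-- Elements of odd order in the centraliser of `x` lie in `K`. -/
theorem odd_mem_K {h : G} (hh : h * x = x * h) {n : ℕ} (hn : Odd n) (hpow : h ^ n = 1) : h ∈ K := by
  obtain ⟨v, hv, k, hk, rfl⟩ := L.decomp hh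
  have hc : Commute v k := (L.mem_V.1 hv).2 k hk
  rw [hc.mul_pow] at hpow
  obtain ⟨m, rfl⟩ := hn
  have hvv : v ^ (2 * m + 1) = v := by rw [pow_succ, pow_mul, pow_two, L.V_sq hv, one_pow, one_mul]
  rw [hvv] at hpow
  have hv1 : v = 1 := L.inf_K hv (by
    rw [eq_inv_of_mul_eq_one_left hpow]; exact inv_mem (pow_mem hk _))
  rw [hv1, one_mul]; exact hk

theorem conj_V {w v : G} (hv : v ∈ L.V) (hv1 : v ≠ 1) (hw : w * x * w⁻¹ = v) :
    (∀ u ∈ L.V, w * u * w⁻¹ ∈ L.V) ∧ ∀ k ∈ K, w * k * w⁻¹ ∈ K := by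
  have hC := L.centralizer_V hv hv1
  have hmap : ∀ h : G, h * x = x * h ↔ (w * h * w⁻¹) * x = x * (w * h * w⁻¹) := by
    intro h
    constructor
    · intro e
      have : w * h * w⁻¹ ∈ Subgroup.centralizer ({v} : Set G) := by
        rw [Subgroup.mem_centralizer_singleton_iff, ← hw]
        exact commute_conj_iff.2 e
      exact Subgroup.mem_centralizer_singleton_iff.1 (hC ▸ this)
    · intro e
      have : w * h * w⁻¹ ∈ Subgroup.centralizer ({v} : Set G) :=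
        hC ▸ Subgroup.mem_centralizer_singleton_iff.2 e
      rw [Subgroup.mem_centralizer_singleton_iff, ← hw] at this
      exact commute_conj_iff.1 this
  refine ⟨fun u hu => L.mem_V.2 ⟨(hmap u).1 (L.mem_V.1 hu).1, fun k hk => ?_⟩, ?_⟩
  · have hkx : k * x = x * k := Subgroup.mem_centralizer_singleton_iff.1 (L.comp.le hk)
    have h1 : (w⁻¹ * k * w) * x = x * (w⁻¹ * k * w) :=
      (hmap _).2 (by rw [show w * (w⁻¹ * k * w) * w⁻¹ = k by group]; exact hkx)
    have h2 := commute_conj_iff (g := w).2 (L.cx_comm_V hu h1).symm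
    rwa [show w * (w⁻¹ * k * w) * w⁻¹ = k by group] at h2
  · intro k hk
    obtain ⟨b, hb, hb15, hbk⟩ := A5.odd_split (ι ⟨k, hk⟩) (L.sign _)
    obtain ⟨b', hb'⟩ := L.el_exists hb
    have key : ∀ j : K, j ^ 15 = 1 → w * (j : G) * w⁻¹ ∈ K := fun j hj => by
      refine L.odd_mem_K ((hmap _).1 (Subgroup.mem_centralizer_singleton_iff.1 (L.comp.le j.2)))
        (n := 15) ⟨7, by norm_num⟩ ?_
      rw [conj_pow, show (j : G) ^ 15 = 1 from congrArg Subtype.val hj]
      group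
    have e1 := key b' (L.inj (by rw [map_pow, hb', hb15, map_one]))
    have e2 := key (b' * ⟨k, hk⟩) (L.inj (by rw [map_pow, map_mul, hb', hbk, map_one]))
    have := mul_mem (inv_mem e1) e2
    simpa [mul_assoc] using this

theorem exists_second : ∃ v ∈ L.V, v ≠ 1 ∧ v ≠ x := by
  by_contra hcon
  push Not at hcon
  have hsub : (L.V : Set G) ⊆ {1, x} := fun w hw => by
    by_cases h1 : w = 1
    · exact Or.inl h1
    · exact Or.inr (hcon w hw h1)
  have := Set.ncard_le_ncard hsub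
  rw [← Nat.card_coe_set_eq, SetLike.coe_sort_coe, L.card_V, Set.ncard_pair c.x_ne_one.symm] at this
  omega

theorem V_cases {a : G} (ha : a ∈ L.V) (ha1 : a ≠ 1) (hax : a ≠ x) {u : G} (hu : u ∈ L.V) :
    u = 1 ∨ u = x ∨ u = a ∨ u = x * a := by
  classical
  by_contra hcon
  simp only [not_or] at hcon
  obtain ⟨h1, h2, h3, h4⟩ := hcon
  have hx2 := c.outer.1
  have n1 : x * a ≠ 1 := fun e => hax (by rw [eq_inv_of_mul_eq_one_right e, inv_eq_of_mul_eq_one_right hx2])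
  have hsub : ((({1, x, a, x * a, u} : Finset G)) : Set G) ⊆ L.V := by
    intro w hw
    simp only [Finset.coe_insert, Finset.coe_singleton, Set.mem_insert_iff, Set.mem_singleton_iff] at hw
    rcases hw with rfl | rfl | rfl | rfl | rfl
    · exact one_mem _
    · exact L.x_mem_V
    · exact ha
    · exact mul_mem L.x_mem_V ha
    · exact hu
  have := Set.ncard_le_ncard hsub
  rw [Set.ncard_coe_finset, ← Nat.card_coe_set_eq, SetLike.coe_sort_coe, L.card_V,
    Finset.card_insert_of_notMem (by simp [c.x_ne_one.symm, ha1.symm, n1.symm, Ne.symm h1]),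
    Finset.card_insert_of_notMem (by simp [hax.symm, ha1, Ne.symm h2]),
    Finset.card_insert_of_notMem (by simp [c.x_ne_one, Ne.symm h3]),
    Finset.card_insert_of_notMem (by simp [Ne.symm h4]), Finset.card_singleton] at this
  omega

/-- A normalising element has its cube in the centraliser of `x`. -/
theorem cube_mem {w : G} (hw : ∀ u ∈ L.V, w * u * w⁻¹ ∈ L.V) :
    w ^ 3 ∈ Subgroup.centralizer ({x} : Set G) := by
  set a := w * x * w⁻¹ with ha
  have haV : a ∈ L.V := hw x L.x_mem_V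
  have ha1 : a ≠ 1 := fun e => c.x_ne_one (conj_eq_one_iff.1 e)
  by_cases hax : a = x
  · exact pow_mem (Subgroup.mem_centralizer_singleton_iff.2 (mul_inv_eq_iff_eq_mul.1 hax)) 3
  set b := w * a * w⁻¹ with hb
  have hb1 : b ≠ 1 := fun e => ha1 (conj_eq_one_iff.1 e)
  have hba : b ≠ a := fun e => hax ((MulAut.conj w).injective (show w * a * w⁻¹ = w * x * w⁻¹ from e))
  rw [Subgroup.mem_centralizer_singleton_iff, ← mul_inv_eq_iff_eq_mul]
  have e3 : w ^ 3 * x * (w ^ 3)⁻¹ = w * b * w⁻¹ := by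
    simp only [hb, ha, pow_succ, pow_zero, one_mul, mul_inv_rev, mul_assoc]
  rw [e3]
  rcases L.V_cases haV ha1 hax (hw a haV) with h | h | h | h
  · exact absurd h hb1
  · exfalso
    have hxa : x * a ≠ 1 := fun e => hax (by
      rw [eq_inv_of_mul_eq_one_right e, inv_eq_of_mul_eq_one_right c.outer.1])
    have hfix : w * (x * a) * w⁻¹ = x * a := by
      calc w * (x * a) * w⁻¹ = a * b := by rw [hb, ha]; group
        _ = x * a := by rw [show b = x from h, L.V_comm haV L.x_mem_V]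
    have hwC : w ∈ Subgroup.centralizer ({x * a} : Set G) :=
      Subgroup.mem_centralizer_singleton_iff.2 (mul_inv_eq_iff_eq_mul.1 hfix)
    rw [L.centralizer_V (mul_mem L.x_mem_V haV) hxa, Subgroup.mem_centralizer_singleton_iff] at hwC
    exact hax (mul_inv_eq_iff_eq_mul.2 hwC)
  · exact absurd h hba
  · calc w * b * w⁻¹ = w * (x * a) * w⁻¹ := by rw [show b = x * a from h]
      _ = a * b := by rw [hb, ha]; group
      _ = a * (x * a) := by rw [show b = x * a from h]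
      _ = x * (a * a) := by rw [← mul_assoc, L.V_comm haV L.x_mem_V, mul_assoc]
      _ = x := by rw [L.V_sq haV, mul_one]

/-- An element of order 3 centralising `K` and not centralising `x`. -/
theorem exists_r : ∃ r : G, orderOf r = 3 ∧ (∀ k ∈ K, r * k = k * r) ∧ r * x ≠ x * r ∧
    ∀ u ∈ L.V, r * u * r⁻¹ ∈ L.V := by
  classical
  obtain ⟨u, hu⟩ := L.el_exists A5.sign_consts.1
  obtain ⟨g, hg⟩ := L.el_exists A5.sign_consts.2.2.2.1
  obtain ⟨c3, c3', -⟩ := A5.consts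
  obtain ⟨v, hv, hv1, hvx⟩ := L.exists_second
  obtain ⟨y, hy⟩ := isConj_iff.1 (L.V_isConj hv hv1)
  set N := Subgroup.normalizer (L.V : Set G) ⊓ Subgroup.normalizer (K : Set G) with hN
  have memN : ∀ w, w * x * w⁻¹ ∈ L.V → w ∈ N := by
    intro w hw
    obtain ⟨h1, h2⟩ := L.conj_V hw (fun e => c.x_ne_one (conj_eq_one_iff.1 e)) rfl
    have fix : ∀ {S : Subgroup G}, (∀ a ∈ S, w * a * w⁻¹ ∈ S) → w ∈ Subgroup.normalizer (S : Set G) := by
      intro S hS
      rw [← TwoFusion.map_conj_eq_self_iff_mem_normalizer]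
      refine Subgroup.eq_of_le_of_card_ge ?_ (le_of_eq ?_)
      · rintro _ ⟨a, ha, rfl⟩; exact hS a ha
      · rw [Subgroup.card_map_of_injective (MulAut.conj w).injective]
    exact ⟨fix h1, fix h2⟩
  have Nconj : ∀ w ∈ N, ∀ a ∈ L.V, w * a * w⁻¹ ∈ L.V := fun w hw a ha =>
    (Subgroup.mem_normalizer_iff.1 hw.1 a).1 ha
  set C := Subgroup.centralizer ({x} : Set G) with hC
  have hCN : C ≤ N := fun h hh => memN h (by
    rw [mul_inv_eq_iff_eq_mul.2 (Subgroup.mem_centralizer_singleton_iff.1 hh)]; exact L.x_mem_V)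
  have hyN : y ∈ N := memN y (hy ▸ hv)
  have hyC : y ∉ C := fun h => hvx (by
    rw [← hy, mul_inv_eq_iff_eq_mul.2 (Subgroup.mem_centralizer_singleton_iff.1 h)])
  obtain ⟨m₀, a₀, hm₀, hpow₀⟩ := exists_three_part y
  -- move to an element fixing `u`
  set w₀ := y ^ m₀
  have hw₀N : w₀ ∈ N := pow_mem hyN _
  have hw₀C : w₀ ∉ C := fun h => hyC (pow_mem_iff_three (L.cube_mem (Nconj y hyN)) hm₀ h)
  obtain ⟨β, hβi, hβs, hβ⟩ := L.exists_conjHom hw₀N.2
  have huu : u * u * u = 1 := L.inj (by rw [map_mul, map_mul, hu, c3, map_one])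
  have hu1 : u ≠ 1 := fun e => c3' (by rw [← hu, e, map_one])
  obtain ⟨b, hb, hbu⟩ := A5.conj_three (β u) (hβs u)
    (by rw [pow_succ, pow_two, ← map_mul, ← map_mul, huu, map_one]) (fun e => hu1 (hβi (by rw [e, map_one])))
  obtain ⟨b', hb'⟩ := L.el_exists hb
  set w₁ := (b' : G)⁻¹ * w₀ with hw₁
  have hb'C : (b' : G) ∈ C := L.comp.le b'.2
  have hw₁N : w₁ ∈ N := mul_mem (hCN (inv_mem hb'C)) hw₀N
  have hw₁C : w₁ ∉ C := fun h => hw₀C (by
    have := mul_mem hb'C h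
    rwa [hw₁, mul_inv_cancel_left] at this)
  have hw₁u : w₁ * u = u * w₁ := by
    let u' : K := ⟨w₀ * u * w₀⁻¹, (Subgroup.mem_normalizer_iff.1 hw₀N.2 u).1 u.2⟩
    have h1 : ι u' * ι b' = ι b' * ι u := by rw [← hβ u u' rfl, hb', hu, hbu]
    rw [← map_mul, ← map_mul] at h1
    have h2 : w₀ * u * w₀⁻¹ * b' = b' * u := congrArg Subtype.val (L.inj h1)
    calc w₁ * u = (b' : G)⁻¹ * (w₀ * u * w₀⁻¹ * b') * ((b' : G)⁻¹ * w₀) := by rw [hw₁]; group
      _ = u * w₁ := by rw [h2, hw₁]; group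
  obtain ⟨m₁, a₁, hm₁, hpow₁⟩ := exists_three_part w₁
  set w := w₁ ^ m₁ with hw
  have hwN : w ∈ N := pow_mem hw₁N _
  have hwC : w ∉ C := fun h => hw₁C (pow_mem_iff_three (L.cube_mem (Nconj w₁ hw₁N)) hm₁ h)
  have hwu : w * u = u * w := ((show Commute w₁ u from hw₁u).pow_left m₁).eq
  obtain ⟨γ, hγi, hγs, hγ⟩ := L.exists_conjHom hwN.2
  have hγu : γ u = A5.s₀ := by
    rw [← hu]
    exact hγ u u (show (u : G) = w * u * w⁻¹ by rw [hwu, mul_inv_cancel_right])
  obtain ⟨cc, hcc, hconj⟩ := A5.exists_conj_of_fix ι γ L.inj hγi L.sign hγs L.surj hu hg hγu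
  obtain ⟨-, hc6⟩ := A5.C6_comm cc hcc
  -- iterate
  let φ : ∀ n : ℕ, ∀ k : K, K := fun n k =>
    ⟨w ^ n * k * (w ^ n)⁻¹, (Subgroup.mem_normalizer_iff.1 (pow_mem hwN.2 n) k).1 k.2⟩
  have hiter : ∀ n : ℕ, ∀ k : K, ι (φ n k) = cc ^ n * ι k * (cc ^ n)⁻¹ := by
    intro n
    induction n with
    | zero => intro k; rw [show φ 0 k = k from Subtype.ext (by simp [φ])]; simp
    | succ n ih =>
      intro k
      rw [← hγ (φ n k) (φ (n + 1) k) (show w ^ (n + 1) * k * (w ^ (n + 1))⁻¹ = w * (w ^ n * k * (w ^ n)⁻¹) * w⁻¹ by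
        rw [pow_succ']; group), hconj, ih]
      rw [pow_succ']; group
  have hcg : cc ^ 3 ^ a₁ * A5.g₀ = A5.g₀ * cc ^ 3 ^ a₁ := by
    have h := hiter (3 ^ a₁) g
    rw [show φ (3 ^ a₁) g = g from Subtype.ext (by simp [φ, hpow₁]), hg] at h
    exact (eq_mul_inv_iff_mul_eq.1 h).symm
  have hmod : cc ^ 3 ^ a₁ = cc ^ (3 ^ a₁ % 6) := pow_eq_pow_mod _ hc6
  have hodd : Odd (3 ^ a₁) := Odd.pow ⟨1, rfl⟩
  have h135 : 3 ^ a₁ % 6 = 1 ∨ 3 ^ a₁ % 6 = 3 ∨ 3 ^ a₁ % 6 = 5 := by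
    obtain ⟨j, hj⟩ := hodd; omega
  rw [hmod] at hcg
  have hccs : cc = 1 ∨ cc = A5.s₀ ∨ cc = A5.s₀ * A5.s₀ := by
    refine A5.odd_power cc hcc ?_
    rcases h135 with h | h | h <;> rw [h] at hcg
    · exact Or.inl (by rwa [pow_one] at hcg)
    · exact Or.inr (Or.inl hcg)
    · exact Or.inr (Or.inr hcg)
  obtain ⟨i, hi⟩ : ∃ i : ℕ, cc = ι (u ^ i) := by
    rcases hccs with h | h | h
    · exact ⟨0, by simp [h]⟩
    · exact ⟨1, by simp [h, hu]⟩
    · exact ⟨2, by simp [h, hu, pow_two]⟩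
  set r := ((u : G) ^ i)⁻¹ * w with hr
  have hrK : ∀ k ∈ K, r * k = k * r := by
    intro k hk
    have h := hiter 1 ⟨k, hk⟩
    rw [pow_one, hi, ← map_mul, ← map_inv, ← map_mul] at h
    have h' : w ^ 1 * k * (w ^ 1)⁻¹ = (u : G) ^ i * k * ((u : G) ^ i)⁻¹ := congrArg Subtype.val (L.inj h)
    rw [pow_one] at h'
    calc r * k = ((u : G) ^ i)⁻¹ * (w * k * w⁻¹) * w := by rw [hr]; group
      _ = k * r := by rw [h', hr]; group
  have hrC : r ∉ C := fun h => hwC (by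
    have := mul_mem (pow_mem (L.comp.le u.2) i) h
    rwa [hr, mul_inv_cancel_left] at this)
  have hrN : r ∈ N := mul_mem (inv_mem (pow_mem (hCN (L.comp.le u.2)) i)) hwN
  refine ⟨r, ?_, hrK, fun e => hrC (Subgroup.mem_centralizer_singleton_iff.2 e), Nconj r hrN⟩
  have hu3 : (u : G) ^ 3 = 1 := by
    rw [pow_succ, pow_two]; exact congrArg Subtype.val huu
  have hrpow : r ^ 3 ^ (a₁ + 1) = 1 := by
    rw [hr, (((show Commute w (u : G) from hwu).symm.pow_left i).inv_left).mul_pow, inv_pow, ← pow_mul,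
      show i * 3 ^ (a₁ + 1) = 3 * (i * 3 ^ a₁) by rw [pow_succ]; ring, pow_mul, hu3, one_pow, inv_one,
      one_mul, pow_succ, pow_mul, hpow₁, one_pow]
  have hr3V : r ^ 3 ∈ L.V := L.mem_V.2
    ⟨Subgroup.mem_centralizer_singleton_iff.1 (L.cube_mem (Nconj r hrN)),
      fun k hk => ((show Commute r k from hrK k hk).pow_left 3).eq⟩
  have hr3 : r ^ 3 = 1 := by
    obtain ⟨j, hj⟩ : Odd (3 ^ a₁) := hodd
    have h : (r ^ 3) ^ (2 * j + 1) = r ^ 3 := by
      rw [pow_succ, pow_mul, pow_two, L.V_sq hr3V, one_pow, one_mul]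
    rw [← h, ← pow_mul, ← hj, ← pow_succ', hrpow]
  haveI := Fact.mk Nat.prime_three
  exact orderOf_eq_prime hr3 fun e => hrC (e ▸ one_mem _)

end Loc

end Cfsg.Agent.J2Loc
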